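/-
Semilinear coactions and local freeness: the engine behind "a commutative Hopf algebra is
faithfully flat over every sub-Hopf-algebra".
-/
import Mathlib.LinearAlgebra.ExteriorAlgebra.OfAlternating
import Mathlib.LinearAlgebra.Multilinear.Basis
import Mathlib.LinearAlgebra.TensorProduct.Basis
import Mathlib.Algebra.Module.Torsion.Basic
import Mathlib.LinearAlgebra.Determinant
import Mathlib.LinearAlgebra.FreeModule.Finite.Basic
import Mathlib.RingTheory.Finiteness.Nakayama
import Mathlib.RingTheory.Flat.Basic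
import Mathlib.RingTheory.Flat.Tensor
import Mathlib.RingTheory.TensorProduct.Maps

set_option autoImplicit false

open TensorProduct

namespace Groth.Agent.HopfFF

/-- A module which near every maximal ideal is a factor of a free module (up to a scalar outside
the ideal) is flat. -/
theorem flat_of_forall_factor {B : Type*} {M : Type*} [CommRing B] [AddCommGroup M] [Module B M]
    (h : ∀ P : Ideal B, P.IsMaximal → ∃ s : B, s ∉ P ∧
      ∃ (r : ℕ) (σ : M →ₗ[B] (Fin r → B)) (Φ : (Fin r → B) →ₗ[B] M), ∀ x, Φ (σ x) = s • x) :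
    Module.Flat B M := by
  rw [Module.Flat.iff_rTensor_injective']
  intro I
  rw [injective_iff_map_eq_zero]
  intro z hz
  by_contra hne
  let a : Ideal B := LinearMap.ker (LinearMap.toSpanSingleton B (I ⊗[B] M) z)
  have ha : a ≠ ⊤ := by
    intro hT
    apply hne
    have : (1 : B) ∈ a := hT ▸ Submodule.mem_top
    simpa [a] using this
  obtain ⟨P, hP, hle⟩ := Ideal.exists_le_maximal a ha
  obtain ⟨s, hs, r, σ, Φ, hΦ⟩ := h P hP
  apply hs
  apply hle
  have h1 : LinearMap.rTensor (Fin r → B) I.subtype (LinearMap.lTensor I σ z) = 0 := by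
    rw [← LinearMap.comp_apply, LinearMap.rTensor_comp_lTensor, ← LinearMap.lTensor_comp_rTensor,
      LinearMap.comp_apply, hz, map_zero]
  have h2 : LinearMap.lTensor I σ z = 0 :=
    (injective_iff_map_eq_zero _).1
      (Module.Flat.rTensor_preserves_injective_linearMap (M := Fin r → B) I.subtype
        Subtype.val_injective) _ h1
  have h3 : Φ ∘ₗ σ = s • LinearMap.id := LinearMap.ext fun x => by simp [hΦ]
  have h4 : LinearMap.lTensor I (Φ ∘ₗ σ) z = 0 := by
    rw [LinearMap.lTensor_comp, LinearMap.comp_apply, h2, map_zero]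
  rw [h3, LinearMap.lTensor_smul, LinearMap.lTensor_id] at h4
  simpa [a] using h4

/-- A central scalar-twist of a linear map to a ring propagates along the exterior algebra. -/
theorem mul_prod_eq_zero_of_smul_ιMulti_eq_zero {B M S : Type*} [CommRing B] [AddCommGroup M]
    [Module B M] [Ring S] (f : B →+* S) (hc : ∀ b x, f b * x = x * f b) (g : M →+ S)
    (hg : ∀ b m, g (b • m) = f b * g m) (hsq : ∀ m, g m * g m = 0) {r : ℕ} (b : B)
    (v : Fin r → M) (h : b • ExteriorAlgebra.ιMulti B r v = 0) :
    f b * (List.ofFn fun i => g (v i)).prod = 0 := by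
  letI : Algebra B S := f.toAlgebra' hc
  let gl : M →ₗ[B] S :=
    { toFun := g
      map_add' := g.map_add
      map_smul' := fun c m => hg c m }
  have := congrArg (ExteriorAlgebra.lift B ⟨gl, hsq⟩) h
  rw [map_smul, ExteriorAlgebra.ιMulti_apply, map_list_prod, List.map_ofFn, map_zero,
    Algebra.smul_def] at this
  simpa [Function.comp_def, gl, RingHom.algebraMap_toAlgebra'] using this

theorem prod_ofFn_mul_of_central {S : Type*} [Monoid S] :
    ∀ {n : ℕ} (c y : Fin n → S), (∀ i x, c i * x = x * c i) →
      (List.ofFn fun i => c i * y i).prod = (List.ofFn c).prod * (List.ofFn y).prod := by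
  intro n
  induction n with
  | zero => intros; simp
  | succ n ih =>
    intro c y hc
    have hC : Commute (List.ofFn fun i : Fin n => c i.succ).prod (y 0) := by
      refine Commute.list_prod_left _ _ ?_
      intro x hx
      rw [List.mem_ofFn] at hx
      obtain ⟨i, rfl⟩ := hx
      exact hc i.succ (y 0)
    simp only [List.ofFn_succ, List.prod_cons]
    rw [ih (fun i => c i.succ) (fun i => y i.succ) fun i => hc i.succ]
    simp only [mul_assoc]
    rw [← mul_assoc (y 0), ← hC.eq, mul_assoc]

section coaction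

variable {k B A M : Type*} [Field k] [CommRing B] [Algebra k B] [CommRing A] [Algebra k A]
  [AddCommGroup M] [Module k M] [Module B M] [IsScalarTower k B M]

variable (k B A M) in
/-- The action of `B ⊗ A` on `M ⊗ A`. -/
noncomputable def act : B ⊗[k] A →ₗ[k] M ⊗[k] A →ₗ[k] M ⊗[k] A :=
  TensorProduct.homTensorHomMap (RingHom.id k) M A M A ∘ₗ
    TensorProduct.map (Algebra.lsmul k k M).toLinearMap (LinearMap.mul k A)

@[simp] theorem act_tmul (x : B) (a : A) (m : M) (a' : A) :
    act k B A M (x ⊗ₜ a) (m ⊗ₜ a') = (x • m) ⊗ₜ (a * a') := by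
  simp [act]

/-- `m ⊗ a ↦ ρ m · a`. -/
noncomputable def spanMap (ρ : M →ₗ[k] M ⊗[k] A) : M ⊗[k] A →ₗ[k] M ⊗[k] A :=
  TensorProduct.lift
    ((LinearMap.flip ((act k B A M) ∘ₗ (Algebra.TensorProduct.includeRight (R := k) (A := B)
      (B := A)).toLinearMap)) ∘ₗ ρ)

@[simp] theorem spanMap_tmul (ρ : M →ₗ[k] M ⊗[k] A) (m : M) (a : A) :
    spanMap (B := B) ρ (m ⊗ₜ a) = act k B A M ((1 : B) ⊗ₜ a) (ρ m) := by
  simp [spanMap]

variable (k B) in
/-- The `φ`-coordinate of an element of `B ⊗ A`. -/
noncomputable def coeff (φ : A →ₗ[k] k) : B ⊗[k] A →ₗ[k] B :=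
  (TensorProduct.rid k B).toLinearMap ∘ₗ φ.lTensor B

@[simp] theorem coeff_tmul (φ : A →ₗ[k] k) (x : B) (a : A) :
    coeff k B φ (x ⊗ₜ a) = φ a • x := by simp [coeff]

local notation "E" => ExteriorAlgebra B M

/-- `B ⊗ A → E ⊗ A`. -/
noncomputable def eMap : B ⊗[k] A →ₐ[k] E ⊗[k] A :=
  Algebra.TensorProduct.map ((Algebra.ofId B E).restrictScalars k) (AlgHom.id k A)

/-- `M ⊗ A → E ⊗ A`. -/
noncomputable def iMap : M ⊗[k] A →ₗ[k] E ⊗[k] A :=
  LinearMap.rTensor A ((ExteriorAlgebra.ι B : M →ₗ[B] E).restrictScalars k)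

theorem eMap_central (z : B ⊗[k] A) (y : E ⊗[k] A) :
    eMap (M := M) z * y = y * eMap (M := M) z := by
  induction z using TensorProduct.induction_on with
  | zero => simp
  | add u v hu hv => simp [add_mul, mul_add, hu, hv]
  | tmul x a =>
    induction y using TensorProduct.induction_on with
    | zero => simp
    | add u v hu hv => simp [add_mul, mul_add, hu, hv]
    | tmul u a' =>
      simp [eMap, Algebra.commutes x u, mul_comm a a']

theorem iMap_act (z : B ⊗[k] A) (w : M ⊗[k] A) :
    iMap (k := k) (B := B) (act k B A M z w) = eMap (M := M) z * iMap (k := k) (B := B) w := by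
  induction z using TensorProduct.induction_on with
  | zero => simp
  | add u v hu hv => simp [add_mul, hu, hv]
  | tmul x a =>
    induction w using TensorProduct.induction_on with
    | zero => simp
    | add u v hu hv => simp [mul_add, hu, hv]
    | tmul m a' => simp [eMap, iMap, Algebra.smul_def]

theorem iMap_anticomm (y z : M ⊗[k] A) :
    iMap (k := k) (B := B) y * iMap (k := k) (B := B) z
      + iMap (k := k) (B := B) z * iMap (k := k) (B := B) y = 0 := by
  induction y using TensorProduct.induction_on with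
  | zero => simp
  | add u v hu hv =>
    rw [map_add, add_mul, mul_add, add_add_add_comm, hu, hv, add_zero]
  | tmul m a =>
    induction z using TensorProduct.induction_on with
    | zero => simp
    | add u v hu hv =>
      rw [map_add, add_mul, mul_add, add_add_add_comm, hu, hv, add_zero]
    | tmul m' a' =>
      simp only [iMap, LinearMap.rTensor_tmul, LinearMap.coe_restrictScalars,
        Algebra.TensorProduct.tmul_mul_tmul]
      rw [mul_comm a' a, ← TensorProduct.add_tmul, ExteriorAlgebra.ι_add_mul_swap, zero_tmul]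

theorem iMap_sq (y : M ⊗[k] A) : iMap (k := k) (B := B) y * iMap (k := k) (B := B) y = 0 := by
  induction y using TensorProduct.induction_on with
  | zero => simp
  | tmul m a => simp [iMap]
  | add u v hu hv =>
    rw [map_add, add_mul, mul_add, mul_add, hu, hv, zero_add, add_zero, iMap_anticomm]

theorem coeff_eMap_mul (φ : A →ₗ[k] k) (z : B ⊗[k] A) (u : E) :
    (TensorProduct.rid k E) (φ.lTensor E (eMap (M := M) z * u ⊗ₜ 1)) = coeff k B φ z • u := by
  induction z using TensorProduct.induction_on with
  | zero => simp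
  | add z w hz hw => simp [add_mul, add_smul, hz, hw]
  | tmul x a =>
    simp [eMap, Algebra.smul_def, mul_assoc, ← IsScalarTower.algebraMap_apply]

variable (B M) in
/-- The ideal annihilating the `r`-th exterior power. -/
noncomputable def detIdeal (r : ℕ) : Ideal B :=
  ⨅ v : Fin r → M,
    LinearMap.ker (LinearMap.toSpanSingleton B E (ExteriorAlgebra.ιMulti B r v))

theorem mem_detIdeal {r : ℕ} {b : B} :
    b ∈ detIdeal B M r ↔ ∀ v : Fin r → M, b • ExteriorAlgebra.ιMulti B r v = 0 := by
  simp [detIdeal]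

/-- The annihilator of an exterior power is stable under the coaction. -/
theorem coeff_mem_detIdeal (δ : B →ₐ[k] B ⊗[k] A) (ρ : M →ₗ[k] M ⊗[k] A)
    (hρ : ∀ (b : B) (m : M), ρ (b • m) = act k B A M (δ b) (ρ m))
    (hspan : ∀ m : M, ∃ x, spanMap (B := B) ρ x = m ⊗ₜ 1) {r : ℕ} {b : B}
    (hb : b ∈ detIdeal B M r) (φ : A →ₗ[k] k) : coeff k B φ (δ b) ∈ detIdeal B M r := by
  rw [mem_detIdeal] at hb ⊢
  let f : B →+* E ⊗[k] A := ((eMap (M := M)).comp δ).toRingHom
  let g : M →ₗ[k] E ⊗[k] A := iMap (k := k) (B := B) ∘ₗ ρ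
  have key : ∀ v : Fin r → M, f b * (List.ofFn fun i => g (v i)).prod = 0 := fun v =>
    mul_prod_eq_zero_of_smul_ιMulti_eq_zero f (fun c x => eMap_central (δ c) x) g.toAddMonoidHom
      (fun c m => by simp [f, g, hρ, iMap_act]) (fun m => iMap_sq (ρ m)) b v (hb v)
  let G : MultilinearMap k (fun _ : Fin r => M ⊗[k] A) (E ⊗[k] A) :=
    (LinearMap.mulLeft k (f b)).compMultilinearMap
      ((MultilinearMap.mkPiAlgebraFin k r (E ⊗[k] A)).compLinearMap
        fun _ => iMap (k := k) (B := B) ∘ₗ spanMap (B := B) ρ)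
  have hG : G = 0 := by
    refine Module.Basis.ext_multilinear (fun _ =>
      (Module.Free.chooseBasis k M).tensorProduct (Module.Free.chooseBasis k A)) fun v => ?_
    simp only [G, LinearMap.compMultilinearMap_apply, MultilinearMap.compLinearMap_apply,
      MultilinearMap.mkPiAlgebraFin_apply, LinearMap.mulLeft_apply, _root_.zero_apply,
      LinearMap.comp_apply, Module.Basis.tensorProduct_apply', spanMap_tmul, iMap_act]
    rw [prod_ofFn_mul_of_central _ _ fun i x => eMap_central _ x, ← mul_assoc]
    set C := (List.ofFn fun i => eMap (M := M) ((1 : B) ⊗ₜ[k]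
      (Module.Free.chooseBasis k A (v i).2))).prod
    rw [show f b * C = C * f b from eMap_central (δ b) C, mul_assoc]
    have := key (fun i => Module.Free.chooseBasis k M (v i).1)
    simp only [g, LinearMap.comp_apply] at this
    rw [this, mul_zero]
  intro w
  choose x hx using fun i => hspan (w i)
  have h0 : G x = 0 := by rw [hG, _root_.zero_apply]
  simp only [G, LinearMap.compMultilinearMap_apply, MultilinearMap.compLinearMap_apply,
    MultilinearMap.mkPiAlgebraFin_apply, LinearMap.mulLeft_apply, LinearMap.comp_apply, hx] at h0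
  have hprod : (List.ofFn fun i => iMap (k := k) (B := B) (w i ⊗ₜ[k] (1 : A))).prod
      = (ExteriorAlgebra.ιMulti B r w) ⊗ₜ[k] (1 : A) := by
    have : ∀ i, iMap (k := k) (B := B) (w i ⊗ₜ[k] (1 : A)) =
        Algebra.TensorProduct.includeLeft (R := k) (S := k) (ExteriorAlgebra.ι B (w i)) :=
      fun i => by simp [iMap]
    simp only [this]
    rw [ExteriorAlgebra.ιMulti_apply]
    have h2 := map_list_prod (Algebra.TensorProduct.includeLeft (R := k) (S := k) (A := E) (B := A))
      (List.ofFn fun i => ExteriorAlgebra.ι B (w i))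
    rw [List.map_ofFn] at h2
    exact h2.symm
  rw [hprod] at h0
  have h1 := congrArg (fun z => (TensorProduct.rid k E) (φ.lTensor E z)) h0
  simpa [f, coeff_eMap_mul] using h1

end coaction

/-- Locally at a maximal ideal, a finite module whose exterior-power annihilators are all
trivial unless improper is a factor of a free module. -/
theorem exists_factor {B M : Type*} [CommRing B] [AddCommGroup M] [Module B M] [Module.Finite B M]
    (hJ : ∀ r : ℕ, detIdeal B M r ≠ ⊤ → detIdeal B M r = ⊥) (P : Ideal B) (hP : P.IsMaximal) :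
    ∃ s : B, s ∉ P ∧
      ∃ (r : ℕ) (σ : M →ₗ[B] (Fin r → B)) (Φ : (Fin r → B) →ₗ[B] M), ∀ x, Φ (σ x) = s • x := by
  let N0 : Submodule B M := P • (⊤ : Submodule B M)
  letI : Module (B ⧸ P) (M ⧸ N0) :=
    inferInstanceAs (Module (B ⧸ P) (M ⧸ P • (⊤ : Submodule B M)))
  have : IsScalarTower B (B ⧸ P) (M ⧸ N0) :=
    inferInstanceAs (IsScalarTower B (B ⧸ P) (M ⧸ P • (⊤ : Submodule B M)))
  letI := Ideal.Quotient.field P
  have : Module.Finite (B ⧸ P) (M ⧸ N0) := Module.Finite.of_restrictScalars_finite B _ _
  let r := Module.finrank (B ⧸ P) (M ⧸ N0)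
  let bas : Module.Basis (Fin r) (B ⧸ P) (M ⧸ N0) := Module.finBasis (B ⧸ P) (M ⧸ N0)
  choose m hm using fun i => Submodule.Quotient.mk_surjective N0 (bas i)
  -- the ideal is proper
  let D : M [⋀^Fin r]→ₗ[B] (B ⧸ P) :=
    AlternatingMap.mk ((bas.det.toMultilinearMap.restrictScalars B).compLinearMap fun _ => N0.mkQ)
      (fun v i j h hne =>
        bas.det.map_eq_zero_of_eq (fun i => N0.mkQ (v i)) (by simp [h]) hne)
  have hD : D m = 1 := by
    show bas.det (fun i => N0.mkQ (m i)) = 1
    simp only [Submodule.mkQ_apply, hm]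
    exact bas.det_self
  let L : ExteriorAlgebra B M →ₗ[B] (B ⧸ P) :=
    ExteriorAlgebra.liftAlternating (Pi.single r D)
  have hle : detIdeal B M r ≤ P := by
    intro b hb
    have := congrArg L (mem_detIdeal.1 hb m)
    rw [map_smul, map_zero, ExteriorAlgebra.liftAlternating_apply_ιMulti, Pi.single_eq_same, hD,
      Algebra.smul_def, mul_one, Ideal.Quotient.algebraMap_eq, Ideal.Quotient.eq_zero_iff_mem]
      at this
    exact this
  have hbot : detIdeal B M r = ⊥ := hJ r fun h => hP.ne_top (top_le_iff.1 (h ▸ hle))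
  -- Nakayama
  let Φ : (Fin r → B) →ₗ[B] M := Fintype.linearCombination B m
  let N : Submodule B M := LinearMap.range Φ
  have hsup : ⊤ ≤ N0 ⊔ N := by
    intro x _
    obtain ⟨c, hc⟩ : ∃ c : Fin r → B,
        (Submodule.Quotient.mk x : M ⧸ N0) = ∑ i, c i • bas i := by
      choose c hc using fun i => Ideal.Quotient.mk_surjective (bas.repr (Submodule.Quotient.mk x) i)
      refine ⟨c, ?_⟩
      conv_lhs => rw [← bas.sum_repr (Submodule.Quotient.mk x : M ⧸ N0)]
      refine Finset.sum_congr rfl fun i _ => ?_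
      rw [← hc i, ← algebraMap_smul (B ⧸ P) (c i) (bas i), Ideal.Quotient.algebraMap_eq]
    rw [Submodule.mem_sup]
    refine ⟨x - Φ c, ?_, Φ c, LinearMap.mem_range_self _ _, sub_add_cancel _ _⟩
    rw [← Submodule.Quotient.mk_eq_zero, Submodule.Quotient.mk_sub, hc, sub_eq_zero]
    show _ = N0.mkQ (Φ c)
    simp [Φ, Fintype.linearCombination_apply, map_sum, hm]
  have hfg : (⊤ : Submodule B (M ⧸ N)).FG := Module.Finite.fg_top
  have hle' : (⊤ : Submodule B (M ⧸ N)) ≤ P • (⊤ : Submodule B (M ⧸ N)) := by
    have := Submodule.map_mono (f := N.mkQ) hsup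
    rw [Submodule.map_sup, Submodule.map_smul'', Submodule.map_top, Submodule.range_mkQ,
      Submodule.mkQ_map_self, sup_bot_eq] at this
    exact this
  obtain ⟨t, ht1, ht⟩ :=
    Submodule.exists_sub_one_mem_and_smul_eq_zero_of_fg_of_le_smul P _ hfg hle'
  have htP : t ∉ P := fun h => hP.ne_top (P.eq_top_iff_one.2 (by simpa using P.sub_mem h ht1))
  have htN : ∀ x : M, t • x ∈ N := fun x => by
    rw [← Submodule.Quotient.mk_eq_zero, Submodule.Quotient.mk_smul]
    exact ht _ Submodule.mem_top
  -- relations are killed by a power of t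
  have hrel : ∀ c : Fin r → B, Φ c = 0 → ∀ i, t ^ r * c i = 0 := by
    intro c hc i
    have hci : c i • ExteriorAlgebra.ιMulti B r m = 0 := by
      have hupd : c i • ExteriorAlgebra.ιMulti B r m =
          ExteriorAlgebra.ιMulti B r (Function.update m i (c i • m i)) := by
        rw [(ExteriorAlgebra.ιMulti B r).map_update_smul, Function.update_eq_self]
      rw [hupd]
      have : c i • m i = -∑ j ∈ Finset.univ.erase i, c j • m j := by
        rw [eq_neg_iff_add_eq_zero, Finset.add_sum_erase _ (fun j => c j • m j) (Finset.mem_univ i)]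
        simpa [Φ, Fintype.linearCombination_apply] using hc
      rw [this, AlternatingMap.map_update_neg, AlternatingMap.map_update_sum, neg_eq_zero]
      refine Finset.sum_eq_zero fun j hj => ?_
      rw [AlternatingMap.map_update_smul]
      simp [AlternatingMap.map_update_self, (ExteriorAlgebra.ιMulti B r).map_update_self m,
        (Finset.ne_of_mem_erase hj).symm]
    have hzero : c i • (ExteriorAlgebra.ιMulti B r).compLinearMap Φ = 0 := by
      refine Module.Basis.ext_alternating (Pi.basisFun B (Fin r)) fun v hv => ?_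
      have hbij : Function.Bijective v := Finite.injective_iff_bijective.1 hv
      rw [AlternatingMap.smul_apply, AlternatingMap.compLinearMap_apply,
        AlternatingMap.zero_apply]
      have : (fun j => Φ (Pi.basisFun B (Fin r) (v j))) = m ∘ Equiv.ofBijective v hbij := by
        funext j
        simp [Φ, Fintype.linearCombination_apply, Pi.single_apply]
      rw [this, AlternatingMap.map_perm, smul_comm, hci, smul_zero]
    have : t ^ r * c i ∈ detIdeal B M r := by
      rw [mem_detIdeal]
      intro w
      choose d hd using fun j => htN (w j)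
      have h1 : c i • ExteriorAlgebra.ιMulti B r (fun j => t • w j) = 0 := by
        have := congrArg (fun F : (Fin r → B) [⋀^Fin r]→ₗ[B] ExteriorAlgebra B M => F d) hzero
        simpa [hd] using this
      have h2 := (ExteriorAlgebra.ιMulti B r).toMultilinearMap.map_smul_univ (fun _ => t) w
      simp only [Finset.prod_const, Finset.card_univ, Fintype.card_fin,
        AlternatingMap.coe_multilinearMap] at h2
      rw [h2] at h1
      rw [mul_comm, mul_smul, h1]
    rw [hbot] at this
    simpa using this
  let T : (Fin r → B) →ₗ[B] (Fin r → B) := t ^ r • LinearMap.id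
  have hT : LinearMap.ker Φ ≤ LinearMap.ker T := fun c hc => by
    rw [LinearMap.mem_ker] at hc ⊢
    funext i
    simpa [T] using hrel c hc i
  let σ : M →ₗ[B] (Fin r → B) := (LinearMap.ker Φ).liftQ T hT ∘ₗ
    Φ.quotKerEquivRange.symm.toLinearMap ∘ₗ LinearMap.codRestrict N (t • LinearMap.id) htN
  refine ⟨t ^ r * t, fun h => ((hP.isPrime.mem_or_mem h).elim
    (fun h' => htP (hP.isPrime.mem_of_pow_mem r h')) htP), r, σ, Φ, fun x => ?_⟩
  obtain ⟨c, hc⟩ := htN x
  have h1 : LinearMap.codRestrict N (t • LinearMap.id) htN x = ⟨Φ c, ⟨c, rfl⟩⟩ :=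
    Subtype.ext hc.symm
  have h2 : σ x = T c := by
    simp only [σ, LinearMap.comp_apply, LinearEquiv.coe_coe, h1]
    rw [LinearMap.quotKerEquivRange_symm_apply_image Φ c ⟨c, rfl⟩]
    simp
  rw [h2]
  simp [T, hc, mul_smul]

end Groth.Agent.HopfFF
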