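/-
A commutative Hopf algebra over a field is faithfully flat over each sub-Hopf-algebra.
-/
import Groth.Agent.HopfFFLib.Generic
import Groth.Agent.ComodLib.LinRed
import Groth.Prelude.Def_SGA3
import Mathlib.RingTheory.HopfAlgebra.Convolution
import Mathlib.RingTheory.Flat.FaithfullyFlat.Basic
import Mathlib.LinearAlgebra.TensorProduct.RightExactness

set_option autoImplicit false

universe u v

open TensorProduct

namespace Groth.Agent.HopfFF

/-- A sub-Hopf-algebra (`SGA3.IsHopfSubalgebra` without the restriction on universes). -/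
def IsSubHopf (k : Type u) [Field k] (A : Type v) [CommRing A] [HopfAlgebra k A]
    (B : Subalgebra k A) : Prop :=
  (∀ b ∈ B, CoalgebraStruct.comul (R := k) (A := A) b ∈
      LinearMap.range (TensorProduct.map B.val.toLinearMap B.val.toLinearMap)) ∧
    ∀ b ∈ B, HopfAlgebraStruct.antipode (R := k) (A := A) b ∈ B

variable {k : Type u} [Field k] {A : Type v} [CommRing A] [HopfAlgebra k A] {B : Subalgebra k A}

theorem map_val_injective (B : Subalgebra k A) :
    Function.Injective (Algebra.TensorProduct.map B.val B.val) := by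
  have h : (Algebra.TensorProduct.map B.val B.val).toLinearMap =
      LinearMap.rTensor A B.val.toLinearMap ∘ₗ LinearMap.lTensor ↥B B.val.toLinearMap :=
    TensorProduct.ext' fun x y => by simp
  show Function.Injective (Algebra.TensorProduct.map B.val B.val).toLinearMap
  rw [h]
  exact (Module.Flat.rTensor_preserves_injective_linearMap B.val.toLinearMap
    Subtype.val_injective).comp
    (Module.Flat.lTensor_preserves_injective_linearMap B.val.toLinearMap Subtype.val_injective)

theorem comul_mem_range (hB : IsSubHopf k A B) (b : ↥B) :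
    (Bialgebra.comulAlgHom k A).comp B.val b ∈
      (Algebra.TensorProduct.map B.val B.val).range := by
  obtain ⟨z, hz⟩ := hB.1 b b.2
  refine ⟨z, ?_⟩
  exact (LinearMap.congr_fun (show
    (Algebra.TensorProduct.map B.val B.val).toLinearMap =
      TensorProduct.map B.val.toLinearMap B.val.toLinearMap from
    TensorProduct.ext' fun x y => by simp) z).trans hz

/-- The comultiplication of a sub-Hopf-algebra. -/
noncomputable def δB (hB : IsSubHopf k A B) : ↥B →ₐ[k] ↥B ⊗[k] ↥B :=
  (AlgEquiv.ofInjective _ (map_val_injective B)).symm.toAlgHom.comp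
    (((Bialgebra.comulAlgHom k A).comp B.val).codRestrict _ (comul_mem_range hB))

theorem map_δB (hB : IsSubHopf k A B) (b : ↥B) :
    Algebra.TensorProduct.map B.val B.val (δB hB b) = CoalgebraStruct.comul (R := k) (b : A) := by
  have h := (AlgEquiv.ofInjective _ (map_val_injective B)).apply_symm_apply
    ((((Bialgebra.comulAlgHom k A).comp B.val).codRestrict _ (comul_mem_range hB)) b)
  exact congrArg Subtype.val h

/-- The antipode of a sub-Hopf-algebra. -/
noncomputable def SB (hB : IsSubHopf k A B) : ↥B →ₐ[k] ↥B :=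
  ((HopfAlgebra.antipodeAlgHom k A).comp B.val).codRestrict B fun b => hB.2 b b.2

/-- The coaction of `A` on `B`. -/
noncomputable def δA (hB : IsSubHopf k A B) : ↥B →ₐ[k] ↥B ⊗[k] A :=
  (Algebra.TensorProduct.map (AlgHom.id k ↥B) B.val).comp (δB hB)

theorem map_δA (hB : IsSubHopf k A B) (b : ↥B) :
    Algebra.TensorProduct.map B.val (AlgHom.id k A) (δA hB b) =
      CoalgebraStruct.comul (R := k) (b : A) := by
  rw [← map_δB hB, δA, AlgHom.comp_apply, ← AlgHom.comp_apply,
    ← Algebra.TensorProduct.map_comp]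
  rfl

/-- A proper ideal of a sub-Hopf-algebra stable under the coaction is zero. -/
theorem eq_bot_of_stable (hB : IsSubHopf k A B) (J : Ideal ↥B) (hJ : J ≠ ⊤)
    (hst : ∀ b ∈ J, ∀ φ : A →ₗ[k] k, coeff k (↥B) φ (δA hB b) ∈ J) : J = ⊥ := by
  classical
  let β := Module.Free.chooseBasis k ↥B
  -- `δB b` lies in `J ⊗ B`
  have hrep : ∀ b ∈ J, ∃ c : Module.Free.ChooseBasisIndex k ↥B →₀ ↥B, (∀ i, c i ∈ J) ∧
      δB hB b = c.sum fun i x => x ⊗ₜ[k] β i := by
    intro b hb
    refine ⟨TensorProduct.equivFinsuppOfBasisRight β (δB hB b), fun i => ?_, ?_⟩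
    · obtain ⟨φ, hφ⟩ := LinearMap.exists_extend (f := β.coord i)
        (p := Subalgebra.toSubmodule B)
      have hco : ∀ z : ↥B ⊗[k] ↥B,
          coeff k (↥B) φ (Algebra.TensorProduct.map (AlgHom.id k ↥B) B.val z) =
            TensorProduct.rid k ↥B ((β.coord i).lTensor _ z) := by
        intro z
        induction z using TensorProduct.induction_on with
        | zero => simp
        | add z w hz hw => simp [hz, hw]
        | tmul x y =>
          have : φ (y : A) = β.repr y i := LinearMap.congr_fun hφ y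
          simp [this]
      rw [TensorProduct.equivFinsuppOfBasisRight_apply, ← hco]
      exact hst b hb φ
    · rw [← TensorProduct.equivFinsuppOfBasisRight_symm_apply, LinearEquiv.symm_apply_apply]
  have hε : ∀ b ∈ J, CoalgebraStruct.counit (R := k) (b : A) = 0 := by
    intro b hb
    by_contra hne
    obtain ⟨c, hcJ, hc⟩ := hrep b hb
    have hmem : Algebra.TensorProduct.productMap (AlgHom.id k ↥B) (SB hB) (δB hB b) ∈ J := by
      rw [hc, Finsupp.sum, map_sum]
      refine J.sum_mem fun i _ => ?_
      rw [Algebra.TensorProduct.productMap_apply_tmul]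
      exact J.mul_mem_right _ (hcJ i)
    have hval : ∀ z : ↥B ⊗[k] ↥B,
        (B.val (Algebra.TensorProduct.productMap (AlgHom.id k ↥B) (SB hB) z) : A) =
          LinearMap.mul' k A (LinearMap.lTensor A (HopfAlgebraStruct.antipode (R := k))
            (Algebra.TensorProduct.map B.val B.val z)) := by
      intro z
      induction z using TensorProduct.induction_on with
      | zero => simp
      | add z w hz hw => simp only [map_add, hz, hw]
      | tmul x y =>
        simp only [Algebra.TensorProduct.productMap_apply_tmul, Algebra.TensorProduct.map_tmul,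
          LinearMap.lTensor_tmul, LinearMap.mul'_apply, map_mul]
        rfl
    have h1 : Algebra.TensorProduct.productMap (AlgHom.id k ↥B) (SB hB) (δB hB b) =
        algebraMap k ↥B (CoalgebraStruct.counit (R := k) (b : A)) := by
      apply Subtype.ext
      show B.val _ = _
      rw [hval, map_δB, HopfAlgebra.mul_antipode_lTensor_comul_apply]
      rfl
    rw [h1] at hmem
    exact hJ (Ideal.eq_top_of_isUnit_mem J hmem ((isUnit_iff_ne_zero.2 hne).map (algebraMap k ↥B)))
  rw [eq_bot_iff]
  intro b hb
  rw [Submodule.mem_bot]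
  obtain ⟨c, hcJ, hc⟩ := hrep b hb
  have h := congrArg (fun z => TensorProduct.lid k A
    (LinearMap.rTensor A (CoalgebraStruct.counit (R := k))
      (Algebra.TensorProduct.map B.val B.val z))) hc
  simp only [map_δB, Coalgebra.rTensor_counit_comul, TensorProduct.lid_tmul, one_smul,
    Finsupp.sum, map_sum, Algebra.TensorProduct.map_tmul, LinearMap.rTensor_tmul] at h
  apply Subtype.ext
  rw [h]
  refine Finset.sum_eq_zero fun i _ => ?_
  rw [show CoalgebraStruct.counit (R := k) (B.val (c i)) = 0 from hε _ (hcJ i), zero_smul]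

/-- Local structure of modules with a semilinear coaction of `A`. -/
theorem factor_of_coaction (hB : IsSubHopf k A B) {M : Type v} [AddCommGroup M]
    [Module k M] [Module ↥B M] [IsScalarTower k ↥B M] [Module.Finite ↥B M]
    (ρ : M →ₗ[k] M ⊗[k] A)
    (hρ : ∀ (b : ↥B) (m : M), ρ (b • m) = act k (↥B) A M (δA hB b) (ρ m))
    (hspan : ∀ m : M, ∃ x, spanMap (B := ↥B) ρ x = m ⊗ₜ 1) (P : Ideal ↥B) (hP : P.IsMaximal) :
    ∃ s : ↥B, s ∉ P ∧ ∃ (r : ℕ) (σ : M →ₗ[↥B] (Fin r → ↥B)) (Φ : (Fin r → ↥B) →ₗ[↥B] M),
      ∀ x, Φ (σ x) = s • x :=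
  exists_factor (fun r hr => eq_bot_of_stable hB _ hr fun b hb φ =>
    coeff_mem_detIdeal (δA hB) ρ hρ hspan hb φ) P hP

/-- The inclusion `M ⊗ A → A ⊗ A`. -/
noncomputable def jmap (M : Submodule ↥B A) : ↥M ⊗[k] A →ₗ[k] A ⊗[k] A :=
  LinearMap.rTensor A (M.subtype.restrictScalars k)

theorem jmap_injective (M : Submodule ↥B A) : Function.Injective (jmap (k := k) M) :=
  Module.Flat.rTensor_preserves_injective_linearMap _ Subtype.val_injective

theorem jmap_act (M : Submodule ↥B A) (z : ↥B ⊗[k] A) (w : ↥M ⊗[k] A) :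
    jmap M (act k (↥B) A (↥M) z w) =
      Algebra.TensorProduct.map B.val (AlgHom.id k A) z * jmap M w := by
  induction z using TensorProduct.induction_on with
  | zero => simp
  | add u v hu hv => simp only [map_add, LinearMap.add_apply, hu, hv, add_mul]
  | tmul x a =>
    induction w using TensorProduct.induction_on with
    | zero => simp
    | add u v hu hv => simp only [map_add, hu, hv, mul_add]
    | tmul m a' =>
      simp [jmap, Subalgebra.smul_def]

theorem jmap_mono {M N : Submodule ↥B A} (h : M ≤ N) :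
    LinearMap.range (jmap (k := k) M) ≤ LinearMap.range (jmap (k := k) N) := by
  rintro _ ⟨z, rfl⟩
  refine ⟨LinearMap.rTensor A ((Submodule.inclusion h).restrictScalars k) z, ?_⟩
  rw [jmap, jmap, ← LinearMap.comp_apply, ← LinearMap.rTensor_comp]
  rfl

/-- Finitely generated `B`-submodules stable under the coaction. -/
structure Good (M : Submodule ↥B A) : Prop where
  fg : M.FG
  stab : ∀ x ∈ M, CoalgebraStruct.comul (R := k) x ∈ LinearMap.range (jmap (k := k) M)

theorem Good.sup {M N : Submodule ↥B A} (hM : Good M) (hN : Good N) : Good (M ⊔ N) := by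
  refine ⟨hM.fg.sup hN.fg, fun x hx => ?_⟩
  obtain ⟨y, hy, z, hz, rfl⟩ := Submodule.mem_sup.1 hx
  rw [map_add]
  exact add_mem (jmap_mono le_sup_left (hM.stab y hy)) (jmap_mono le_sup_right (hN.stab z hz))

/-- `A` as a comodule over itself. -/
@[reducible] noncomputable def selfComod : HopfRep.Comod k A A where
  coact := CoalgebraStruct.comul
  coassoc := Coalgebra.coassoc
  counit_comp := Coalgebra.lTensor_counit_comp_comul

open scoped ComodLib in
theorem exists_good (hB : IsSubHopf k A B) (a : A) :
    ∃ M : Submodule ↥B A, Good M ∧ a ∈ M := by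
  letI := selfComod (k := k) (A := A)
  let W : Submodule k A :=
    (Submodule.span (ComodLib.Dual' k A) ({a} : Set A)).restrictScalars k
  have hfin : Module.Finite k W := ComodLib.finite_span_singleton A a
  have hsub : HopfRep.IsSubcomod (k := k) (A := A) W := ComodLib.isSubcomod_restrictScalars _
  have haW : a ∈ W := Submodule.mem_span_singleton_self (R := ComodLib.Dual' k A) a
  refine ⟨Submodule.span ↥B (W : Set A), ⟨?_, ?_⟩, Submodule.subset_span haW⟩
  · obtain ⟨s, hs⟩ := Module.Finite.iff_fg.1 hfin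
    refine ⟨s, le_antisymm (Submodule.span_mono fun x hx => hs ▸ Submodule.subset_span hx) ?_⟩
    rw [Submodule.span_le, ← hs]
    exact Submodule.span_subset_span k ↥B _
  · intro x hx
    induction hx using Submodule.span_induction with
    | mem x hx =>
      obtain ⟨z, hz⟩ := hsub x hx
      let i : ↥W →ₗ[k] ↥(Submodule.span ↥B (W : Set A)) :=
        LinearMap.codRestrict ((Submodule.span ↥B (W : Set A)).restrictScalars k) W.subtype
          fun w => Submodule.subset_span w.2
      refine ⟨LinearMap.rTensor A i z, ?_⟩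
      rw [jmap, ← LinearMap.comp_apply, ← LinearMap.rTensor_comp]
      exact hz
    | zero => simp
    | add x y _ _ hx hy => rw [map_add]; exact add_mem hx hy
    | smul b x _ hx =>
      obtain ⟨w, hw⟩ := hx
      refine ⟨act k (↥B) A _ (δA hB b) w, ?_⟩
      rw [jmap_act, hw, map_δA, Subalgebra.smul_def, smul_eq_mul, Bialgebra.comul_mul]

/-- `(x ⊗ a) ↦ Δ x · (1 ⊗ a)`. -/
noncomputable def Ψ : A ⊗[k] A →ₐ[k] A ⊗[k] A :=
  Algebra.TensorProduct.productMap (Bialgebra.comulAlgHom k A)
    (Algebra.TensorProduct.includeRight)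

theorem Ψ_antipode_comul (x : A) :
    Ψ (k := k) (LinearMap.lTensor A (HopfAlgebraStruct.antipode (R := k))
      (CoalgebraStruct.comul (R := k) x)) = x ⊗ₜ[k] (1 : A) := by
  let f : A ⊗[k] A →ₗ[k] A :=
    LinearMap.mul' k A ∘ₗ LinearMap.lTensor A (HopfAlgebraStruct.antipode (R := k))
  have hL : ∀ z : A ⊗[k] A,
      Ψ (k := k) (LinearMap.lTensor A (HopfAlgebraStruct.antipode (R := k)) z) =
        LinearMap.lTensor A f (TensorProduct.assoc k A A A
          (LinearMap.rTensor A (CoalgebraStruct.comul (R := k)) z)) := by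
    intro z
    induction z using TensorProduct.induction_on with
    | zero => simp
    | add z w hz hw => simp only [map_add, hz, hw]
    | tmul u v =>
      simp only [Ψ, LinearMap.lTensor_tmul, LinearMap.rTensor_tmul,
        Algebra.TensorProduct.productMap_apply_tmul, Bialgebra.comulAlgHom_apply,
        Algebra.TensorProduct.includeRight_apply]
      induction (CoalgebraStruct.comul (R := k) u) using TensorProduct.induction_on with
      | zero => simp
      | add p q hp hq => simp only [add_mul, add_tmul, map_add, hp, hq]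
      | tmul p q => simp [f]
  rw [hL, Coalgebra.coassoc_apply, ← LinearMap.comp_apply, ← LinearMap.lTensor_comp]
  have hf : f ∘ₗ CoalgebraStruct.comul (R := k) =
      Algebra.linearMap k A ∘ₗ CoalgebraStruct.counit := by
    simp only [f, LinearMap.comp_assoc]
    exact HopfAlgebra.mul_antipode_lTensor_comul
  rw [hf, LinearMap.lTensor_comp, LinearMap.comp_apply, Coalgebra.lTensor_counit_comul]
  simp

section good

variable {M : Submodule ↥B A}

/-- The coaction on a stable submodule. -/
noncomputable def Good.ρ (hM : Good (k := k) M) : ↥M →ₗ[k] ↥M ⊗[k] A :=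
  (LinearEquiv.ofInjective _ (jmap_injective M)).symm.toLinearMap ∘ₗ
    LinearMap.codRestrict _ (CoalgebraStruct.comul ∘ₗ M.subtype.restrictScalars k)
      fun x => hM.stab _ x.2

theorem Good.jmap_ρ (hM : Good (k := k) M) (x : ↥M) :
    jmap M (hM.ρ x) = CoalgebraStruct.comul (R := k) (x : A) := by
  have h := (LinearEquiv.ofInjective _ (jmap_injective (k := k) M)).apply_symm_apply
    (LinearMap.codRestrict _ (CoalgebraStruct.comul ∘ₗ M.subtype.restrictScalars k)
      (fun x => hM.stab _ x.2) x)
  exact congrArg Subtype.val h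

theorem Good.ρ_smul (hB : IsSubHopf k A B) (hM : Good (k := k) M) (b : ↥B) (m : ↥M) :
    hM.ρ (b • m) = act k (↥B) A (↥M) (δA hB b) (hM.ρ m) := by
  apply jmap_injective (k := k) M
  rw [jmap_act, hM.jmap_ρ, hM.jmap_ρ, map_δA]
  simp [Subalgebra.smul_def, Bialgebra.comul_mul]

theorem Good.span (hM : Good (k := k) M) (m : ↥M) :
    ∃ x, spanMap (B := ↥B) hM.ρ x = m ⊗ₜ[k] (1 : A) := by
  refine ⟨LinearMap.lTensor _ (HopfAlgebraStruct.antipode (R := k)) (hM.ρ m),
    jmap_injective (k := k) M ?_⟩
  have hj : ∀ y, jmap M (spanMap (B := ↥B) hM.ρ y) = Ψ (k := k) (jmap M y) := by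
    intro y
    induction y using TensorProduct.induction_on with
    | zero => simp
    | add y z hy hz => simp only [map_add, hy, hz]
    | tmul m a =>
      rw [spanMap_tmul, jmap_act, hM.jmap_ρ]
      simp only [jmap, Ψ, LinearMap.rTensor_tmul, Algebra.TensorProduct.productMap_apply_tmul,
        Algebra.TensorProduct.map_tmul]
      rw [mul_comm]
      simp
  have hc : ∀ y : ↥M ⊗[k] A,
      jmap M (LinearMap.lTensor _ (HopfAlgebraStruct.antipode (R := k)) y) =
        LinearMap.lTensor A (HopfAlgebraStruct.antipode (R := k)) (jmap M y) := fun y => by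
    induction y using TensorProduct.induction_on with
    | zero => simp
    | add y z hy hz => simp only [map_add, hy, hz]
    | tmul m a => simp [jmap]
  rw [hj, hc, hM.jmap_ρ, Ψ_antipode_comul]
  simp [jmap]

theorem Good.flat (hB : IsSubHopf k A B) (hM : Good (k := k) M) :
    Module.Flat ↥B ↥M := by
  have : Module.Finite ↥B ↥M := Module.Finite.iff_fg.2 hM.fg
  exact flat_of_forall_factor fun P hP => factor_of_coaction hB hM.ρ (hM.ρ_smul hB) hM.span P hP

/-- `1` lies in no `P • M`. -/
theorem Good.one_notMem (hB : IsSubHopf k A B) (hM : Good (k := k) M)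
    (h1 : (1 : A) ∈ M) (P : Ideal ↥B) (hP : P.IsMaximal) :
    (⟨1, h1⟩ : ↥M) ∉ P • (⊤ : Submodule ↥B ↥M) := by
  intro hmem
  have : Module.Finite ↥B ↥M := Module.Finite.iff_fg.2 hM.fg
  set one : ↥M := ⟨1, h1⟩ with hone
  let N1 : Submodule ↥B ↥M := Submodule.span ↥B {one}
  let π : ↥M →ₗ[k] ↥M ⧸ N1 := N1.mkQ.restrictScalars k
  have hπact : ∀ (z : ↥B ⊗[k] A) (w : ↥M ⊗[k] A),
      LinearMap.rTensor A π (act k (↥B) A (↥M) z w) =
        act k (↥B) A (↥M ⧸ N1) z (LinearMap.rTensor A π w) := by
    intro z w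
    induction z using TensorProduct.induction_on with
    | zero => simp
    | add u v hu hv => simp only [map_add, LinearMap.add_apply, hu, hv]
    | tmul x a =>
      induction w using TensorProduct.induction_on with
      | zero => simp
      | add u v hu hv => simp only [map_add, hu, hv]
      | tmul m a' => simp [π]
  have hρone : hM.ρ one = one ⊗ₜ[k] (1 : A) := by
    apply jmap_injective (k := k) M
    rw [hM.jmap_ρ]
    simp [jmap, hone, Bialgebra.comul_one, Algebra.TensorProduct.one_def]
  have hker : N1.restrictScalars k ≤ LinearMap.ker (LinearMap.rTensor A π ∘ₗ hM.ρ) := by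
    intro x hx
    obtain ⟨b, rfl⟩ := Submodule.mem_span_singleton.1 hx
    rw [LinearMap.mem_ker, LinearMap.comp_apply, hM.ρ_smul hB, hπact, hρone]
    have : π one = 0 := (Submodule.Quotient.mk_eq_zero N1).2 (Submodule.mem_span_singleton_self _)
    simp [this]
  let ρQ : (↥M ⧸ N1) →ₗ[k] (↥M ⧸ N1) ⊗[k] A :=
    (N1.restrictScalars k).liftQ (LinearMap.rTensor A π ∘ₗ hM.ρ) hker ∘ₗ
      (Submodule.Quotient.restrictScalarsEquiv k N1).symm.toLinearMap
  have hρQ : ∀ m : ↥M, ρQ (Submodule.Quotient.mk m) = LinearMap.rTensor A π (hM.ρ m) :=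
    fun m => rfl
  have hρQsmul : ∀ (b : ↥B) (q : ↥M ⧸ N1),
      ρQ (b • q) = act k (↥B) A (↥M ⧸ N1) (δA hB b) (ρQ q) := by
    intro b q
    obtain ⟨m, rfl⟩ := Submodule.Quotient.mk_surjective N1 q
    rw [← Submodule.Quotient.mk_smul, hρQ, hρQ, hM.ρ_smul hB, hπact]
  have hspanQ : ∀ q : ↥M ⧸ N1, ∃ x, spanMap (B := ↥B) ρQ x = q ⊗ₜ[k] (1 : A) := by
    intro q
    obtain ⟨m, rfl⟩ := Submodule.Quotient.mk_surjective N1 q
    obtain ⟨x, hx⟩ := hM.span m
    refine ⟨LinearMap.rTensor A π x, ?_⟩
    have : ∀ y, spanMap (B := ↥B) ρQ (LinearMap.rTensor A π y) =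
        LinearMap.rTensor A π (spanMap (B := ↥B) hM.ρ y) := by
      intro y
      induction y using TensorProduct.induction_on with
      | zero => simp
      | add y z hy hz => simp only [map_add, hy, hz]
      | tmul n a =>
        rw [LinearMap.rTensor_tmul, spanMap_tmul, spanMap_tmul, hπact,
          show π n = Submodule.Quotient.mk n from rfl, hρQ]
    rw [this, hx]
    rfl
  obtain ⟨s, hs, r, σ, Φ, hΦ⟩ := factor_of_coaction hB ρQ hρQsmul hspanQ P hP
  choose q hq using fun i => Submodule.Quotient.mk_surjective N1 (Φ (Pi.single i 1))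
  let Φ' : (Fin r → ↥B) →ₗ[↥B] ↥M := Fintype.linearCombination ↥B q
  have hΦ' : N1.mkQ ∘ₗ Φ' = Φ := by
    refine (Pi.basisFun ↥B (Fin r)).ext fun i => ?_
    simp [Φ', hq, Fintype.linearCombination_apply_single]
  let F : ↥M →ₗ[↥B] ↥M := s • LinearMap.id - Φ' ∘ₗ σ ∘ₗ N1.mkQ
  let ψ : ↥B →ₗ[↥B] ↥M := LinearMap.toSpanSingleton ↥B ↥M one
  have hψ : Function.Injective ψ := by
    intro x y hxy
    have := congrArg (fun z : ↥M => (z : A)) hxy
    simpa [ψ, hone, Subalgebra.smul_def] using this
  have hF : ∀ x, F x ∈ LinearMap.range ψ := by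
    intro x
    have h0 : N1.mkQ (F x) = 0 := by
      have h2 := LinearMap.congr_fun hΦ' (σ (N1.mkQ x))
      simp only [LinearMap.comp_apply] at h2
      simp only [F, LinearMap.sub_apply, LinearMap.smul_apply, LinearMap.id_apply,
        LinearMap.comp_apply, map_sub, map_smul, h2, hΦ, sub_self]
    rw [Submodule.mkQ_apply, Submodule.Quotient.mk_eq_zero, Submodule.mem_span_singleton] at h0
    exact h0
  let l : ↥M →ₗ[↥B] ↥B :=
    (LinearEquiv.ofInjective ψ hψ).symm.toLinearMap ∘ₗ LinearMap.codRestrict _ F hF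
  have hl : l one = s := by
    apply hψ
    have h := (LinearEquiv.ofInjective ψ hψ).apply_symm_apply (LinearMap.codRestrict _ F hF one)
    have h' : ψ (l one) = F one := congrArg Subtype.val h
    rw [h']
    have : N1.mkQ one = 0 :=
      (Submodule.Quotient.mk_eq_zero N1).2 (Submodule.mem_span_singleton_self _)
    simp [F, ψ, this]
  apply hs
  rw [← hl]
  have : (P • (⊤ : Submodule ↥B ↥M)).map l ≤ P := by
    rw [Submodule.map_smul'']
    exact Submodule.smul_le.2 fun p hp n _ => P.mul_mem_right n hp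
  exact this ⟨one, hmem, rfl⟩

end good

theorem flat (hB : IsSubHopf k A B) : Module.Flat ↥B A := by
  rw [Module.Flat.iff_rTensor_injective']
  intro I
  rw [injective_iff_map_eq_zero]
  intro z hz
  obtain ⟨M, hM, z', rfl⟩ : ∃ M : Submodule ↥B A, Good (k := k) M ∧
      ∃ z', LinearMap.lTensor I M.subtype z' = z := by
    clear hz
    induction z using TensorProduct.induction_on with
    | zero =>
      obtain ⟨M, hM, -⟩ := exists_good hB (0 : A)
      exact ⟨M, hM, 0, map_zero _⟩
    | tmul i a =>
      obtain ⟨M, hM, ha⟩ := exists_good hB a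
      exact ⟨M, hM, i ⊗ₜ ⟨a, ha⟩, rfl⟩
    | add x y hx hy =>
      obtain ⟨M, hM, x', rfl⟩ := hx
      obtain ⟨N, hN, y', rfl⟩ := hy
      refine ⟨M ⊔ N, hM.sup hN, LinearMap.lTensor I (Submodule.inclusion le_sup_left) x' +
        LinearMap.lTensor I (Submodule.inclusion le_sup_right) y', ?_⟩
      rw [map_add, ← LinearMap.comp_apply, ← LinearMap.comp_apply, ← LinearMap.lTensor_comp,
        ← LinearMap.lTensor_comp]
      rfl
  have := hM.flat hB
  have h1 : LinearMap.lTensor ↥B M.subtype (LinearMap.rTensor ↥M I.subtype z') = 0 := by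
    rw [← LinearMap.comp_apply, LinearMap.lTensor_comp_rTensor, ← LinearMap.rTensor_comp_lTensor,
      LinearMap.comp_apply]
    exact hz
  have h2 := (injective_iff_map_eq_zero _).1
    (Module.Flat.lTensor_preserves_injective_linearMap (M := ↥B) M.subtype Subtype.val_injective)
    _ h1
  rw [(injective_iff_map_eq_zero _).1
    (Module.Flat.rTensor_preserves_injective_linearMap (M := ↥M) I.subtype Subtype.val_injective)
    _ h2, map_zero]

theorem faithfullyFlat (hB : IsSubHopf k A B) : Module.FaithfullyFlat ↥B A := by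
  have := flat hB
  constructor
  intro P hP htop
  have key : ∀ x ∈ P • (⊤ : Submodule ↥B A),
      ∃ M : Submodule ↥B A, Good (k := k) M ∧ x ∈ P • M := by
    intro x hx
    refine Submodule.smul_induction_on hx (fun p hp a _ => ?_) (fun x y hx hy => ?_)
    · obtain ⟨M, hM, ha⟩ := exists_good hB a
      exact ⟨M, hM, Submodule.smul_mem_smul hp ha⟩
    · obtain ⟨M, hM, hxM⟩ := hx
      obtain ⟨N, hN, hyN⟩ := hy
      exact ⟨M ⊔ N, hM.sup hN, add_mem (Submodule.smul_mono le_rfl le_sup_left hxM)
        (Submodule.smul_mono le_rfl le_sup_right hyN)⟩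
  obtain ⟨M, hM, h1⟩ := key 1 (by rw [htop]; exact Submodule.mem_top)
  have h1M : (1 : A) ∈ M := Submodule.smul_le_right h1
  refine hM.one_notMem hB h1M P hP ?_
  have : P • M = (P • (⊤ : Submodule ↥B ↥M)).map M.subtype := by
    rw [Submodule.map_smul'', Submodule.map_subtype_top]
  rw [this] at h1
  obtain ⟨y, hy, hy1⟩ := h1
  exact (Subtype.ext hy1 : y = ⟨1, h1M⟩) ▸ hy

end Groth.Agent.HopfFF
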