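/-
Injective maps of commutative Hopf algebras over a field are faithfully flat.
-/
import Groth.Agent.HopfFFLib.Main
import Mathlib.RingTheory.RingHom.FaithfullyFlat

set_option autoImplicit false

universe u v w

open TensorProduct WithConv

namespace Groth.Agent.HopfFF

variable {k : Type u} [Field k] {A : Type v} [CommRing A] [HopfAlgebra k A]
  {B : Type w} [CommRing B] [HopfAlgebra k B] (f : B →ₐc[k] A)

theorem map_antipode (b : B) :
    f (HopfAlgebraStruct.antipode (R := k) b) = HopfAlgebraStruct.antipode (R := k) (f b) := by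
  have h : toConv ((f : B →ₐ[k] A).comp (HopfAlgebra.antipodeAlgHom k B)) =
      toConv ((HopfAlgebra.antipodeAlgHom k A).comp (f : B →ₐ[k] A)) := by
    show (toConv (f : B →ₐ[k] A))⁻¹ = _
    refine inv_eq_of_mul_eq_one_right ?_
    apply WithConv.ext
    have h2 := AlgHom.convMul_comp_bialgHom_distrib
      (toConv (AlgHom.id k A)) (toConv (HopfAlgebra.antipodeAlgHom k A)) f
    simp only [ofConv_toConv, AlgHom.id_comp] at h2
    rw [← h2]
    have : toConv (AlgHom.id k A) * toConv (HopfAlgebra.antipodeAlgHom k A) = 1 := by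
      apply WithConv.ext
      apply AlgHom.toLinearMap_injective
      apply toConv_injective
      rw [AlgHom.toLinearMap_convMul, AlgHom.toLinearMap_convOne]
      exact LinearMap.id_mul_antipode
    rw [this]
    ext b
    simp
  exact AlgHom.congr_fun (toConv_injective h) b

theorem isSubHopf_range : IsSubHopf k A (f : B →ₐ[k] A).range := by
  constructor
  · rintro _ ⟨b, rfl⟩
    have h : CoalgebraStruct.comul (R := k) (f b) =
        TensorProduct.map (f : B →ₐ[k] A).toLinearMap (f : B →ₐ[k] A).toLinearMap
          (CoalgebraStruct.comul (R := k) b) :=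
      (CoalgHomClass.map_comp_comul_apply f b).symm
    show CoalgebraStruct.comul (R := k) (f b) ∈ _
    rw [h]
    generalize CoalgebraStruct.comul (R := k) b = z
    induction z using TensorProduct.induction_on with
    | zero => simp
    | add z w hz hw => rw [map_add]; exact add_mem hz hw
    | tmul x y =>
      exact ⟨(f : B →ₐ[k] A).rangeRestrict x ⊗ₜ[k] (f : B →ₐ[k] A).rangeRestrict y, rfl⟩
  · rintro _ ⟨b, rfl⟩
    exact ⟨HopfAlgebraStruct.antipode (R := k) b, map_antipode f b⟩

theorem faithfullyFlat_range :
    ((f : B →ₐ[k] A).range.val : (f : B →ₐ[k] A).range →+* A).FaithfullyFlat := by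
  have h := HopfFF.faithfullyFlat (isSubHopf_range f)
  exact (RingHom.faithfullyFlat_algebraMap_iff (R := ↥(f : B →ₐ[k] A).range) (S := A)).2 h

theorem faithfullyFlat_of_injective (hf : Function.Injective f) :
    (f : B →+* A).FaithfullyFlat := by
  let e : B ≃ₐ[k] ↥(f : B →ₐ[k] A).range := AlgEquiv.ofInjective (f : B →ₐ[k] A) hf
  letI : Algebra B A := (f : B →+* A).toAlgebra
  letI : Algebra B ↥(f : B →ₐ[k] A).range := (e.toRingEquiv : B →+* _).toAlgebra
  have : IsScalarTower B ↥(f : B →ₐ[k] A).range A := IsScalarTower.of_algebraMap_eq fun b => rfl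
  have : Module.FaithfullyFlat B ↥(f : B →ₐ[k] A).range :=
    Module.FaithfullyFlat.of_linearEquiv B B
      (LinearEquiv.ofBijective (Algebra.linearMap B ↥(f : B →ₐ[k] A).range) e.bijective).symm
  have := HopfFF.faithfullyFlat (isSubHopf_range f)
  have : Module.FaithfullyFlat B A :=
    Module.FaithfullyFlat.trans B ↥(f : B →ₐ[k] A).range A
  exact RingHom.faithfullyFlat_algebraMap_iff.2 this

end Groth.Agent.HopfFF
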