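/-
A sub-Hopf-algebra as a Hopf algebra; the sub-Hopf-algebras of p-th powers.
-/
import Groth.Agent.HopfFFLib.Main
import Mathlib.Algebra.CharP.Algebra
import Mathlib.Algebra.CharP.Frobenius
import Mathlib.FieldTheory.Perfect

set_option autoImplicit false

universe u v

open TensorProduct

namespace Groth.Agent.HopfFF

variable {k : Type u} [Field k] {A : Type v} [CommRing A] [HopfAlgebra k A] {B : Subalgebra k A}

/-- The Hopf algebra structure of a sub-Hopf-algebra. -/
@[reducible] noncomputable def hopfAlgebra (hB : IsSubHopf k A B) :
    HopfAlgebra k ↥B :=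
  letI cB : ↥B →ₐ[k] k := (Bialgebra.counitAlgHom k A).comp B.val
  letI : Bialgebra k ↥B := Bialgebra.ofAlgHom (δB hB) cB
    (by
      apply AlgHom.ext
      intro b
      let i3 : ↥B ⊗[k] (↥B ⊗[k] ↥B) →ₗ[k] A ⊗[k] (A ⊗[k] A) :=
        LinearMap.rTensor _ B.val.toLinearMap ∘ₗ LinearMap.lTensor ↥B
          (Algebra.TensorProduct.map B.val B.val).toLinearMap
      have hi3 : Function.Injective i3 :=
        (Module.Flat.rTensor_preserves_injective_linearMap B.val.toLinearMap
          Subtype.val_injective).comp
          (Module.Flat.lTensor_preserves_injective_linearMap _ (map_val_injective B))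
      apply hi3
      have hL : ∀ z : ↥B ⊗[k] ↥B, i3 (Algebra.TensorProduct.assoc k k k ↥B ↥B ↥B
          (Algebra.TensorProduct.map (δB hB) (AlgHom.id k ↥B) z)) =
          TensorProduct.assoc k A A A (LinearMap.rTensor A (CoalgebraStruct.comul (R := k))
            (Algebra.TensorProduct.map B.val B.val z)) := by
        intro z
        induction z using TensorProduct.induction_on with
        | zero => simp
        | add z w hz hw => simp only [map_add, hz, hw]
        | tmul x y =>
          simp only [Algebra.TensorProduct.map_tmul, LinearMap.rTensor_tmul, AlgHom.id_apply,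
            Subalgebra.coe_val]
          rw [← map_δB hB x]
          generalize δB hB x = w
          induction w using TensorProduct.induction_on with
          | zero => simp
          | add v w hv hw => simp only [add_tmul, map_add, hv, hw]
          | tmul p q => simp [i3]
      have hR : ∀ z : ↥B ⊗[k] ↥B,
          i3 (Algebra.TensorProduct.map (AlgHom.id k ↥B) (δB hB) z) =
          LinearMap.lTensor A (CoalgebraStruct.comul (R := k))
            (Algebra.TensorProduct.map B.val B.val z) := by
        intro z
        induction z using TensorProduct.induction_on with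
        | zero => simp
        | add z w hz hw => simp only [map_add, hz, hw]
        | tmul x y => exact congrArg ((x : A) ⊗ₜ[k] ·) (map_δB hB y)
      show i3 (Algebra.TensorProduct.assoc k k k ↥B ↥B ↥B
          (Algebra.TensorProduct.map (δB hB) (AlgHom.id k ↥B) (δB hB b))) =
        i3 (Algebra.TensorProduct.map (AlgHom.id k ↥B) (δB hB) (δB hB b))
      rw [hL, hR, map_δB, Coalgebra.coassoc_apply])
    (by
      apply AlgHom.ext
      intro b
      apply Module.Flat.lTensor_preserves_injective_linearMap (M := k) B.val.toLinearMap
        Subtype.val_injective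
      have h : ∀ z : ↥B ⊗[k] ↥B, LinearMap.lTensor k B.val.toLinearMap
          (Algebra.TensorProduct.map cB (AlgHom.id k ↥B) z) =
          LinearMap.rTensor A (CoalgebraStruct.counit (R := k))
            (Algebra.TensorProduct.map B.val B.val z) := by
        intro z
        induction z using TensorProduct.induction_on with
        | zero => simp
        | add z w hz hw => simp only [map_add, hz, hw]
        | tmul x y => simp [cB]
      show LinearMap.lTensor k B.val.toLinearMap
          (Algebra.TensorProduct.map cB (AlgHom.id k ↥B) (δB hB b)) = _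
      rw [h, map_δB, Coalgebra.rTensor_counit_comul]
      simp)
    (by
      apply AlgHom.ext
      intro b
      apply Module.Flat.rTensor_preserves_injective_linearMap (M := k) B.val.toLinearMap
        Subtype.val_injective
      have h : ∀ z : ↥B ⊗[k] ↥B, LinearMap.rTensor k B.val.toLinearMap
          (Algebra.TensorProduct.map (AlgHom.id k ↥B) cB z) =
          LinearMap.lTensor A (CoalgebraStruct.counit (R := k))
            (Algebra.TensorProduct.map B.val B.val z) := by
        intro z
        induction z using TensorProduct.induction_on with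
        | zero => simp
        | add z w hz hw => simp only [map_add, hz, hw]
        | tmul x y => simp [cB]
      show LinearMap.rTensor k B.val.toLinearMap
          (Algebra.TensorProduct.map (AlgHom.id k ↥B) cB (δB hB b)) = _
      rw [h, map_δB, Coalgebra.lTensor_counit_comul]
      simp)
  { antipode := (SB hB).toLinearMap
    mul_antipode_rTensor_comul := by
      apply LinearMap.ext
      intro b
      apply Subtype.val_injective
      have h : ∀ z : ↥B ⊗[k] ↥B,
          ((LinearMap.mul' k ↥B ((SB hB).toLinearMap.rTensor ↥B z) : ↥B) : A) =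
          LinearMap.mul' k A ((HopfAlgebraStruct.antipode (R := k)).rTensor A
            (Algebra.TensorProduct.map B.val B.val z)) := by
        intro z
        induction z using TensorProduct.induction_on with
        | zero => simp
        | add z w hz hw => simp only [map_add, Subalgebra.coe_add, hz, hw]
        | tmul x y => simp [SB]
      show ((LinearMap.mul' k ↥B ((SB hB).toLinearMap.rTensor ↥B (δB hB b)) : ↥B) : A) = _
      rw [h, map_δB, HopfAlgebra.mul_antipode_rTensor_comul_apply]
      rfl
    mul_antipode_lTensor_comul := by
      apply LinearMap.ext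
      intro b
      apply Subtype.val_injective
      have h : ∀ z : ↥B ⊗[k] ↥B,
          ((LinearMap.mul' k ↥B ((SB hB).toLinearMap.lTensor ↥B z) : ↥B) : A) =
          LinearMap.mul' k A ((HopfAlgebraStruct.antipode (R := k)).lTensor A
            (Algebra.TensorProduct.map B.val B.val z)) := by
        intro z
        induction z using TensorProduct.induction_on with
        | zero => simp
        | add z w hz hw => simp only [map_add, Subalgebra.coe_add, hz, hw]
        | tmul x y => simp [SB]
      show ((LinearMap.mul' k ↥B ((SB hB).toLinearMap.lTensor ↥B (δB hB b)) : ↥B) : A) = _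
      rw [h, map_δB, HopfAlgebra.mul_antipode_lTensor_comul_apply]
      rfl }

section frobenius

theorem expChar_self (k : Type u) [Field k] (A : Type v) [CommRing A] [HopfAlgebra k A] (p : ℕ)
    [ExpChar k p] : ExpChar A p :=
  haveI := (Bialgebra.counitAlgHom k A).toRingHom.domain_nontrivial
  expChar_of_injective_algebraMap (algebraMap k A).injective p

theorem expChar_tensor (k : Type u) [Field k] (A : Type v) [CommRing A] [HopfAlgebra k A] (p : ℕ)
    [ExpChar k p] : ExpChar (A ⊗[k] A) p :=
  haveI := ((Algebra.TensorProduct.lid k k).toAlgHom.comp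
    (Algebra.TensorProduct.map (Bialgebra.counitAlgHom k A)
      (Bialgebra.counitAlgHom k A))).toRingHom.domain_nontrivial
  expChar_of_injective_algebraMap (algebraMap k (A ⊗[k] A)).injective p

variable (k A) (p : ℕ) [ExpChar k p]
variable [PerfectRing k p]

/-- The subalgebra of `p ^ n`-th powers. -/
def powSub (n : ℕ) : Subalgebra k A where
  carrier := Set.range fun a : A => a ^ p ^ n
  one_mem' := ⟨1, one_pow _⟩
  mul_mem' := by
    rintro _ _ ⟨x, rfl⟩ ⟨y, rfl⟩
    exact ⟨x * y, mul_pow _ _ _⟩
  zero_mem' := by
    haveI := expChar_self k A p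
    exact ⟨0, zero_pow (Nat.pos_iff_ne_zero.1 (pow_pos (expChar_pos k p) n))⟩
  add_mem' := by
    haveI := expChar_self k A p
    rintro _ _ ⟨x, rfl⟩ ⟨y, rfl⟩
    exact ⟨x + y, add_pow_expChar_pow x y p n⟩
  algebraMap_mem' c := by
    obtain ⟨d, hd⟩ := (bijective_iterateFrobenius k p n).2 c
    exact ⟨algebraMap k A d, by simp [← map_pow, ← hd, iterateFrobenius_def]⟩

theorem mem_powSub {n : ℕ} {a : A} : a ∈ powSub k A p n ↔ ∃ x, x ^ p ^ n = a := Iff.rfl

theorem isHopfSubalgebra_powSub (n : ℕ) : IsSubHopf k A (powSub k A p n) := by
  haveI := expChar_tensor k A p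
  refine ⟨?_, ?_⟩
  · rintro _ ⟨x, rfl⟩
    rw [Bialgebra.comul_pow]
    generalize CoalgebraStruct.comul (R := k) x = z
    induction z using TensorProduct.induction_on with
    | zero => simp [zero_pow (Nat.pos_iff_ne_zero.1 (pow_pos (expChar_pos k p) n))]
    | add u v hu hv =>
      rw [add_pow_expChar_pow]
      exact add_mem hu hv
    | tmul u v =>
      rw [Algebra.TensorProduct.tmul_pow]
      exact ⟨(⟨u ^ p ^ n, ⟨u, rfl⟩⟩ : ↥(powSub k A p n)) ⊗ₜ[k]
        (⟨v ^ p ^ n, ⟨v, rfl⟩⟩ : ↥(powSub k A p n)), rfl⟩
  · rintro _ ⟨x, rfl⟩
    exact ⟨HopfAlgebra.antipodeAlgHom k A x, (map_pow (HopfAlgebra.antipodeAlgHom k A) x _).symm⟩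

end frobenius

end Groth.Agent.HopfFF
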