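/-
The order of an infinitesimal finite group scheme is a power of the characteristic exponent.
-/
import Groth.Agent.HopfFFLib.SubHopf
import Groth.Agent.GrpSchLib.HopfDim
import Mathlib.RingTheory.Flat.FaithfullyFlat.Algebra
import Mathlib.RingTheory.LocalRing.Module
import Mathlib.RingTheory.Artinian.Ring

set_option autoImplicit false

universe u v

open MvPolynomial IsLocalRing
open Groth.Agent.GrpSchLib.HopfRed

namespace Groth.Agent.HopfFF

variable {k : Type u} [Field k] {A : Type v} [CommRing A] [HopfAlgebra k A]

variable (k A) in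
/-- The ideal of `p`-th powers of elements of the augmentation ideal. -/
def pthIdeal (p : ℕ) : Ideal A := Ideal.span {a : A | ∃ y ∈ augI k A, y ^ p = a}

theorem pthIdeal_le (p : ℕ) (hp : p ≠ 0) : pthIdeal k A p ≤ augI k A := by
  rw [pthIdeal, Ideal.span_le]
  rintro _ ⟨y, hy, rfl⟩
  exact Ideal.pow_mem_of_mem _ hy p (Nat.pos_of_ne_zero hp)

theorem derivation_pthIdeal (p : ℕ) [CharP A p] (D : Derivation k A A) :
    ∀ a ∈ pthIdeal k A p, D a ∈ pthIdeal k A p := by
  intro a ha
  induction ha using Submodule.span_induction with
  | mem a ha =>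
    obtain ⟨y, hy, rfl⟩ := ha
    rw [D.leibniz_pow]
    have : (p : A) = 0 := CharP.cast_eq_zero A p
    simp [nsmul_eq_mul, this]
  | zero => simp
  | add a b _ _ ha hb => rw [map_add]; exact add_mem ha hb
  | smul r a ha' ha =>
    rw [smul_eq_mul, D.leibniz, smul_eq_mul, smul_eq_mul]
    exact add_mem (Ideal.mul_mem_left _ _ ha) (Ideal.mul_mem_right _ _ ha')

variable {r : ℕ} (b : Module.Basis (Fin r) k (augI k A).Cotangent) (x : Fin r → A)
  (hx : ∀ i, x i ∈ augI k A) (hxb : ∀ i, cotProj k A (x i) = b i)

include hx hxb in
/-- Reduced forms of degree `n` have independent values modulo `I^(n+1) + J`. -/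
theorem form_eq_zero (p : ℕ) [Fact p.Prime] [CharP k p] :
    ∀ (n : ℕ) (P : MvPolynomial (Fin r) k), P.IsHomogeneous n →
      (∀ d, MvPolynomial.coeff d P ≠ 0 → ∀ i, d i < p) →
      aeval x P ∈ augI k A ^ (n + 1) ⊔ pthIdeal k A p → P = 0 := by
  have hA : CharP A p := by
    haveI := (Bialgebra.counitAlgHom k A).toRingHom.domain_nontrivial
    exact charP_of_injective_algebraMap (algebraMap k A).injective p
  intro n
  induction n with
  | zero =>
    intro P hP _ hmem
    obtain ⟨c, rfl⟩ : ∃ c, P = MvPolynomial.C c :=
      ⟨_, totalDegree_eq_zero_iff_eq_C.1 ((totalDegree_zero_iff_isHomogeneous _).2 hP)⟩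
    rw [zero_add, pow_one, sup_eq_left.2 (pthIdeal_le p (Fact.out : p.Prime).ne_zero),
      RingHom.mem_ker, aeval_C, AlgHom.commutes, Algebra.algebraMap_self,
      RingHom.id_apply] at hmem
    rw [hmem, map_zero]
  | succ n ih =>
    intro P hP hsmall hmem
    have hd : ∀ i, pderiv i P = 0 := by
      intro i
      obtain ⟨D, hD⟩ := exists_derivation_of_dual (b.coord i)
      have hdelta : ∀ j, D (x j) - (if i = j then 1 else 0) ∈ augI k A := by
        intro j
        rw [RingHom.mem_ker, map_sub, hD, hxb]
        split_ifs with h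
        · subst h; simp
        · simp [Finsupp.single_apply, Ne.symm h]
      refine ih _ (by simpa using hP.pderiv) (fun d hd j => ?_) ?_
      · rw [coeff_pderiv] at hd
        have := hsmall _ (left_ne_zero_of_mul hd) j
        have h2 : d j ≤ (d + Finsupp.single i 1 : Fin r →₀ ℕ) j := by simp
        omega
      have h1 : D (aeval x P) ∈ augI k A ^ (n + 1) ⊔ pthIdeal k A p := by
        obtain ⟨u, hu, v, hv, huv⟩ := Submodule.mem_sup.1 hmem
        rw [← huv, map_add]
        exact add_mem (Submodule.mem_sup_left (derivation_pow_succ_le D _ (n + 1) _ hu))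
          (Submodule.mem_sup_right (derivation_pthIdeal p D _ hv))
      rw [chain_rule] at h1
      have h2 : ∑ j, aeval x (pderiv j P) * (D (x j) - if i = j then 1 else 0)
          ∈ augI k A ^ (n + 1) ⊔ pthIdeal k A p := by
        refine Submodule.mem_sup_left (Ideal.sum_mem _ fun j _ => ?_)
        rw [pow_succ]
        exact Ideal.mul_mem_mul (aeval_mem_pow x _ hx (by simpa using hP.pderiv)) (hdelta j)
      have h3 := sub_mem h1 h2
      rw [← Finset.sum_sub_distrib, Finset.sum_eq_single i] at h3
      · simpa [mul_sub] using h3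
      · intro j _ hj
        simp [Ne.symm hj]
      · simp
    ext d
    rw [coeff_zero]
    by_contra hne
    have hdeg : d.degree = n + 1 := by
      have := hP hne
      rw [Finsupp.degree_eq_weight_one]
      exact this
    obtain ⟨i, hi⟩ : ∃ i, d i ≠ 0 := by
      by_contra h
      push Not at h
      have : d = 0 := Finsupp.ext h
      simp [this] at hdeg
    have h := congrArg (MvPolynomial.coeff (d - Finsupp.single i 1)) (hd i)
    rw [coeff_pderiv, coeff_zero, tsub_add_cancel_of_le (Finsupp.single_le_iff.2 (by omega))] at h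
    have hlt := hsmall d hne i
    have hc : (((d - Finsupp.single i 1 : Fin r →₀ ℕ) i + 1 : ℕ) : k) ≠ 0 := by
      rw [Ne, CharP.cast_eq_zero_iff k p]
      intro hdvd
      have := Nat.le_of_dvd (by omega) hdvd
      simp at this
      omega
    push_cast at hc
    exact (mul_ne_zero hne hc) h

include hx hxb in
/-- A reduced polynomial in the parameters lying in `J` vanishes. -/
theorem eq_zero_of_aeval_mem_pth (p : ℕ) [Fact p.Prime] [CharP k p] (P : MvPolynomial (Fin r) k)
    (hsmall : ∀ d, MvPolynomial.coeff d P ≠ 0 → ∀ i, d i < p) (hmem : aeval x P ∈ pthIdeal k A p) : P = 0 := by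
  classical
  have key : ∀ n, homogeneousComponent n P = 0 := by
    intro n
    induction n using Nat.strong_induction_on with
    | _ n ih =>
      refine form_eq_zero b x hx hxb p n _ (homogeneousComponent_isHomogeneous n P) (fun d hd => ?_) ?_
      · rw [coeff_homogeneousComponent] at hd
        split_ifs at hd with h
        · exact hsmall d hd
        · exact absurd rfl hd
      · rcases lt_or_ge n (P.totalDegree + 1) with hn | hn
        · have hsum := P.sum_homogeneousComponent
          rw [← Finset.add_sum_erase _ _ (Finset.mem_range.2 hn)] at hsum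
          have h2 : aeval x (∑ j ∈ (Finset.range (P.totalDegree + 1)).erase n,
              homogeneousComponent j P) ∈ augI k A ^ (n + 1) := by
            rw [map_sum]
            refine Ideal.sum_mem _ fun j hj => ?_
            rcases lt_or_ge j n with hjn | hjn
            · simp [ih j hjn]
            · exact Ideal.pow_le_pow_right (show n + 1 ≤ j by
                have := (Finset.mem_erase.1 hj).1
                omega)
                (aeval_mem_pow x _ hx (homogeneousComponent_isHomogeneous j P))
          have h3 : aeval x (homogeneousComponent n P) = aeval x P -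
              aeval x (∑ j ∈ (Finset.range (P.totalDegree + 1)).erase n,
                homogeneousComponent j P) := by
            rw [eq_sub_iff_add_eq, ← map_add, hsum]
          rw [h3]
          exact sub_mem (Submodule.mem_sup_right hmem) (Submodule.mem_sup_left h2)
        · rw [homogeneousComponent_eq_zero _ _ (by omega), map_zero]
          exact zero_mem _
  rw [← P.sum_homogeneousComponent]
  exact Finset.sum_eq_zero fun j _ => key j

include hx hxb in
theorem mem_range_aeval [IsArtinianRing A] [IsLocalRing A] (a : A) :
    a ∈ (aeval x : MvPolynomial (Fin r) k →ₐ[k] A).range := by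
  obtain ⟨N, hN⟩ := IsArtinianRing.isNilpotent_jacobson_bot (R := A)
  have hI : augI k A ≤ Ideal.jacobson ⊥ := by
    rw [IsLocalRing.jacobson_eq_maximalIdeal ⊥ bot_ne_top]
    exact IsLocalRing.le_maximalIdeal (RingHom.ker_ne_top _)
  have hN' : augI k A ^ N = ⊥ := le_bot_iff.1 ((Ideal.pow_right_mono hI N).trans (le_of_eq hN))
  have : ∀ j n, n + j = N → ∀ a ∈ augI k A ^ n,
      a ∈ (aeval x : MvPolynomial (Fin r) k →ₐ[k] A).range := by
    intro j
    induction j with
    | zero =>
      intro n hn a ha
      rw [show n = N by omega, hN', Ideal.mem_bot] at ha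
      rw [ha]
      exact zero_mem _
    | succ j ih =>
      intro n hn a ha
      obtain ⟨P, -, hP⟩ := exists_aeval_sub_mem b x hx hxb n a ha
      have := add_mem (ih (n + 1) (by omega) _ hP) (AlgHom.mem_range_self (aeval x) P)
      rwa [sub_add_cancel] at this
  exact this N 0 (zero_add N) a (by simp)

include hx hxb in
theorem finrank_quotient_pthIdeal (p : ℕ) [Fact p.Prime] [CharP k p] [IsArtinianRing A]
    [IsLocalRing A] : Module.finrank k (A ⧸ pthIdeal k A p) = p ^ r := by
  classical
  let S : Set (Fin r →₀ ℕ) := {d | ∀ i, d i < p}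
  let φ : restrictSupport k S →ₗ[k] A ⧸ pthIdeal k A p :=
    (Ideal.Quotient.mkₐ k _).toLinearMap ∘ₗ (aeval x).toLinearMap ∘ₗ Submodule.subtype _
  have hinj : Function.Injective φ := by
    rw [injective_iff_map_eq_zero]
    rintro ⟨P, hP⟩ h0
    refine Subtype.ext (eq_zero_of_aeval_mem_pth b x hx hxb p P (fun d hd => ?_) ?_)
    · exact hP (mem_support_iff.2 hd)
    · exact Ideal.Quotient.eq_zero_iff_mem.1 h0
  have hsurj : Function.Surjective φ := by
    intro q
    obtain ⟨a, rfl⟩ := Ideal.Quotient.mk_surjective q
    obtain ⟨P, rfl⟩ := mem_range_aeval b x hx hxb a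
    show Ideal.Quotient.mk _ (aeval x P) ∈ LinearMap.range φ
    rw [P.as_sum, map_sum, map_sum]
    refine Submodule.sum_mem _ fun d _ => ?_
    by_cases hd : d ∈ S
    · exact ⟨⟨monomial d (MvPolynomial.coeff d P), by
        intro e he
        rw [Finset.mem_singleton.1 (support_monomial_subset he)]
        exact hd⟩, rfl⟩
    · simp only [S, Set.mem_ofPred_eq, not_forall, not_lt] at hd
      obtain ⟨i, hi⟩ := hd
      rw [show monomial d (MvPolynomial.coeff d P) =
          monomial (d - Finsupp.single i p) (MvPolynomial.coeff d P) * MvPolynomial.X i ^ p by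
        rw [X_pow_eq_monomial, monomial_mul, mul_one,
          tsub_add_cancel_of_le (Finsupp.single_le_iff.2 hi)], map_mul, map_pow, aeval_X, map_mul]
      rw [(Ideal.Quotient.eq_zero_iff_mem (I := pthIdeal k A p)).2
        (Ideal.subset_span ⟨x i, hx i, rfl⟩), mul_zero]
      exact zero_mem _
  rw [← (LinearEquiv.ofBijective φ ⟨hinj, hsurj⟩).finrank_eq,
    Module.finrank_eq_nat_card_basis (basisRestrictSupport k S)]
  have e : S ≃ (Fin r → Fin p) :=
    { toFun := fun d i => ⟨d.1 i, d.2 i⟩
      invFun := fun f => ⟨Finsupp.equivFunOnFinite.symm fun i => (f i).1, fun i => by simp⟩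
      left_inv := fun d => by ext; simp
      right_inv := fun f => by ext; simp }
  rw [Nat.card_congr e]
  simp

/-- `dim A = p^r · dim A^p` for an infinitesimal group. -/
theorem finrank_eq_mul_pow (p : ℕ) [Fact p.Prime] [CharP k p] [PerfectRing k p] [Module.Finite k A]
    [IsLocalRing A] :
    Module.finrank k A =
      Module.finrank k ↥(powSub k A p 1) * p ^ Module.finrank k (augI k A).Cotangent := by
  classical
  have : IsArtinianRing A := IsArtinianRing.of_finite k A
  haveI := expChar_self k A p
  set B := powSub k A p 1 with hBdef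
  have hff := HopfFF.faithfullyFlat (isHopfSubalgebra_powSub k A p 1)
  have : IsArtinianRing ↥B := IsArtinianRing.of_finite k ↥B
  let F : A →+* ↥B := (iterateFrobenius A p 1).codRestrict B fun a => ⟨a, rfl⟩
  have hF : Function.Surjective F := fun ⟨_, y, hy⟩ => ⟨y, Subtype.ext hy⟩
  have : IsLocalRing ↥B := IsLocalRing.of_surjective' F hF
  have : Module.Finite ↥B A := Module.Finite.of_restrictScalars_finite k ↥B A
  have : Module.Free ↥B A := Module.free_of_flat_of_isLocalRing
  rw [← Module.finrank_mul_finrank k ↥B A]
  congr 1
  let bB := Module.finBasis ↥B A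
  let εB : ↥B →ₐ[k] k := (Bialgebra.counitAlgHom k A).comp B.val
  let ψ : A →ₗ[k] (Fin (Module.finrank ↥B A) → k) :=
    LinearMap.pi fun i => εB.toLinearMap ∘ₗ (bB.coord i).restrictScalars k
  have hψ : Function.Surjective ψ := by
    intro c
    refine ⟨∑ i, algebraMap k ↥B (c i) • bB i, funext fun i => ?_⟩
    show εB (bB.repr (∑ j, algebraMap k ↥B (c j) • bB j) i) = c i
    rw [bB.repr_sum_self]
    simp
  have hker : LinearMap.ker ψ = (pthIdeal k A p).restrictScalars k := by
    apply le_antisymm
    · intro a ha
      rw [Submodule.restrictScalars_mem, ← bB.sum_repr a]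
      refine Ideal.sum_mem _ fun i _ => ?_
      obtain ⟨y, hy⟩ := (bB.repr a i).2
      have hε : εB (bB.repr a i) = 0 := congrFun ha i
      rw [Subalgebra.smul_def, smul_eq_mul]
      refine Ideal.mul_mem_right _ _ (Ideal.subset_span ⟨y, ?_, by simpa using hy⟩)
      rw [RingHom.mem_ker]
      have h2 : cou (k := k) y ^ p = 0 := by
        rw [← map_pow, show y ^ p = ((bB.repr a i : ↥B) : A) by simpa using hy]
        exact hε
      exact pow_eq_zero_iff (Fact.out : p.Prime).ne_zero |>.1 h2
    · intro a ha
      rw [Submodule.restrictScalars_mem] at ha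
      induction ha using Submodule.span_induction with
      | mem a ha =>
        obtain ⟨y, hy, rfl⟩ := ha
        let β : ↥B := ⟨y ^ p, y, by simp⟩
        have hβ : y ^ p = β • (1 : A) := by simp [β, Subalgebra.smul_def]
        rw [LinearMap.mem_ker]
        funext i
        show εB (bB.repr (y ^ p) i) = 0
        rw [hβ, map_smul, Finsupp.smul_apply, smul_eq_mul, map_mul]
        have : εB β = 0 := by
          show cou (k := k) (y ^ p) = 0
          rw [map_pow, RingHom.mem_ker.1 hy, zero_pow (Fact.out : p.Prime).ne_zero]
        rw [this, zero_mul]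
      | zero => simp
      | add u v _ _ hu hv => exact add_mem hu hv
      | smul c u hu' hu =>
        clear hu
        induction hu' using Submodule.span_induction generalizing c with
        | mem u hu =>
          obtain ⟨y, hy, rfl⟩ := hu
          let β : ↥B := ⟨y ^ p, y, by simp⟩
          have hβ : c • y ^ p = β • c := by simp [β, Subalgebra.smul_def, mul_comm]
          rw [LinearMap.mem_ker]
          funext i
          show εB (bB.repr (c • y ^ p) i) = 0
          rw [hβ, map_smul, Finsupp.smul_apply, smul_eq_mul, map_mul]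
          have : εB β = 0 := by
            show cou (k := k) (y ^ p) = 0
            rw [map_pow, RingHom.mem_ker.1 hy, zero_pow (Fact.out : p.Prime).ne_zero]
          rw [this, zero_mul]
        | zero => simp
        | add u v _ _ hu hv => rw [smul_add]; exact add_mem (hu c) (hv c)
        | smul d u _ hu => rw [smul_smul]; exact hu (c * d)
  have := Module.Finite.of_surjective (augI k A).toCotangent (augI k A).toCotangent_surjective
  have : Module.Finite k (augI k A).Cotangent :=
    finite_cotangent (k := k) (B := A)
  let bc := Module.finBasis k (augI k A).Cotangent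
  choose x hx using fun i => (augI k A).toCotangent_surjective (bc i)
  have h := finrank_quotient_pthIdeal bc (fun i => (x i : A)) (fun i => (x i).2)
    (fun i => by rw [cotProj_of_mem (x i).2, ← hx i]) p
  rw [← h, ← (Submodule.Quotient.restrictScalarsEquiv k (pthIdeal k A p)).finrank_eq, ← hker,
    (ψ.quotKerEquivOfSurjective hψ).finrank_eq, Module.finrank_fin_fun]

theorem exists_finrank_eq_pow_of_perfect (p : ℕ) [Fact p.Prime] [CharP k p] [PerfectRing k p] :
    ∀ (n : ℕ) (A : Type v) [CommRing A] [HopfAlgebra k A] [Module.Finite k A] [IsLocalRing A],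
      Module.finrank k A = n → ∃ e, n = p ^ e := by
  intro n
  induction n using Nat.strong_induction_on with
  | _ n ih =>
    intro A _ _ _ _ hn
    have : IsArtinianRing A := IsArtinianRing.of_finite k A
    haveI := expChar_self k A p
    have hmul := finrank_eq_mul_pow (k := k) (A := A) p
    set r := Module.finrank k (augI k A).Cotangent
    by_cases hr : r = 0
    · refine ⟨0, ?_⟩
      have : Module.Finite k (augI k A).Cotangent := finite_cotangent (k := k) (B := A)
      have : Subsingleton (augI k A).Cotangent := Module.finrank_zero_iff.1 hr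
      have hsq : augI k A ≤ augI k A ^ 2 := fun a ha =>
        ((augI k A).toCotangent_eq_zero ⟨a, ha⟩).1 (Subsingleton.elim _ _)
      have hbot : augI k A = ⊥ := by
        refine Submodule.eq_bot_of_le_smul_of_le_jacobson_bot (augI k A) (augI k A)
          (IsNoetherian.noetherian _) ?_ ?_
        · rwa [smul_eq_mul, ← pow_two]
        · rw [IsLocalRing.jacobson_eq_maximalIdeal ⊥ bot_ne_top]
          exact IsLocalRing.le_maximalIdeal (RingHom.ker_ne_top _)
      have hbij : Function.Bijective (cou (k := k) (B := A)) := by
        refine ⟨(injective_iff_map_eq_zero _).2 fun a ha => ?_, fun c => ⟨algebraMap k A c, by simp⟩⟩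
        have : a ∈ augI k A := ha
        rwa [hbot, Ideal.mem_bot] at this
      rw [← hn, (AlgEquiv.ofBijective _ hbij).toLinearEquiv.finrank_eq]
      simp
    · set B := powSub k A p 1
      letI := hopfAlgebra (isHopfSubalgebra_powSub k A p 1)
      let F : A →+* ↥B := (iterateFrobenius A p 1).codRestrict B fun a => ⟨a, rfl⟩
      have hF : Function.Surjective F := fun ⟨_, y, hy⟩ => ⟨y, Subtype.ext hy⟩
      have : IsLocalRing ↥B := IsLocalRing.of_surjective' F hF
      have hpos : 0 < Module.finrank k ↥B := Module.finrank_pos
      have hlt : Module.finrank k ↥B < n := by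
        rw [← hn, hmul]
        exact lt_mul_of_one_lt_right hpos (Nat.one_lt_pow hr (Fact.out : p.Prime).one_lt)
      obtain ⟨e, he⟩ := ih _ hlt ↥B rfl
      exact ⟨e + r, by rw [← hn, hmul, he, pow_add]⟩

end Groth.Agent.HopfFF
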