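/-
Transport of Hopf algebra structures along algebra equivalences.
-/
import Mathlib.RingTheory.HopfAlgebra.Convolution
import Mathlib.RingTheory.TensorProduct.Maps
import Mathlib.RingTheory.FiniteType
import Mathlib.RingTheory.Finiteness.Cardinality

set_option autoImplicit false

universe u v w

open TensorProduct

namespace Groth.Agent.HopfFF

variable {k : Type u} [CommSemiring k] {A : Type v} [CommSemiring A] [HopfAlgebra k A]
  {B : Type w} [CommSemiring B] [Algebra k B]

/-- Transport the Hopf algebra structure of `A` to `B`. -/
@[reducible] noncomputable def hopfTransfer (e : B ≃ₐ[k] A) : HopfAlgebra k B :=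
  letI δ : B →ₐ[k] B ⊗[k] B :=
    ((Algebra.TensorProduct.map e.symm.toAlgHom e.symm.toAlgHom).comp
      (Bialgebra.comulAlgHom k A)).comp e.toAlgHom
  letI ε : B →ₐ[k] k := (Bialgebra.counitAlgHom k A).comp e.toAlgHom
  letI : Bialgebra k B := Bialgebra.ofAlgHom δ ε
    (by
      apply AlgHom.ext
      intro b
      apply (Algebra.TensorProduct.congr e (Algebra.TensorProduct.congr e e)).injective
      have hL : ∀ z : A ⊗[k] A, Algebra.TensorProduct.congr e (Algebra.TensorProduct.congr e e)
          (Algebra.TensorProduct.assoc k k k B B B (Algebra.TensorProduct.map δ (AlgHom.id k B)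
            (Algebra.TensorProduct.map e.symm.toAlgHom e.symm.toAlgHom z))) =
          TensorProduct.assoc k A A A (LinearMap.rTensor A (CoalgebraStruct.comul (R := k)) z) := by
        intro z
        induction z using TensorProduct.induction_on with
        | zero => simp
        | add z w hz hw => simp only [map_add, hz, hw]
        | tmul x y =>
          simp only [Algebra.TensorProduct.map_tmul, AlgHom.id_apply, LinearMap.rTensor_tmul, δ,
            AlgHom.comp_apply, AlgEquiv.coe_algHom, AlgEquiv.apply_symm_apply,
            Bialgebra.comulAlgHom_apply]
          generalize CoalgebraStruct.comul (R := k) x = u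
          induction u using TensorProduct.induction_on with
          | zero => simp
          | add v w hv hw => simp only [add_tmul, map_add, hv, hw]
          | tmul p q => simp
      have hR : ∀ z : A ⊗[k] A, Algebra.TensorProduct.congr e (Algebra.TensorProduct.congr e e)
          (Algebra.TensorProduct.map (AlgHom.id k B) δ
            (Algebra.TensorProduct.map e.symm.toAlgHom e.symm.toAlgHom z)) =
          LinearMap.lTensor A (CoalgebraStruct.comul (R := k)) z := by
        intro z
        induction z using TensorProduct.induction_on with
        | zero => simp
        | add z w hz hw => simp only [map_add, hz, hw]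
        | tmul x y =>
          simp only [Algebra.TensorProduct.map_tmul, AlgHom.id_apply, LinearMap.lTensor_tmul, δ,
            AlgHom.comp_apply, AlgEquiv.coe_algHom, AlgEquiv.apply_symm_apply,
            Bialgebra.comulAlgHom_apply]
          generalize CoalgebraStruct.comul (R := k) y = u
          induction u using TensorProduct.induction_on with
          | zero => simp
          | add v w hv hw => simp only [tmul_add, map_add, hv, hw]
          | tmul p q => simp
      show Algebra.TensorProduct.congr e (Algebra.TensorProduct.congr e e)
          (Algebra.TensorProduct.assoc k k k B B B (Algebra.TensorProduct.map δ (AlgHom.id k B)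
            (Algebra.TensorProduct.map e.symm.toAlgHom e.symm.toAlgHom
              (CoalgebraStruct.comul (R := k) (e b))))) =
        Algebra.TensorProduct.congr e (Algebra.TensorProduct.congr e e)
          (Algebra.TensorProduct.map (AlgHom.id k B) δ
            (Algebra.TensorProduct.map e.symm.toAlgHom e.symm.toAlgHom
              (CoalgebraStruct.comul (R := k) (e b))))
      rw [hL, hR, Coalgebra.coassoc_apply])
    (by
      apply AlgHom.ext
      intro b
      have h : ∀ z : A ⊗[k] A, Algebra.TensorProduct.map ε (AlgHom.id k B)
          (Algebra.TensorProduct.map e.symm.toAlgHom e.symm.toAlgHom z) =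
          LinearMap.lTensor k e.symm.toLinearMap
            (LinearMap.rTensor A (CoalgebraStruct.counit (R := k)) z) := by
        intro z
        induction z using TensorProduct.induction_on with
        | zero => simp
        | add z w hz hw => simp only [map_add, hz, hw]
        | tmul x y => simp [ε]
      show Algebra.TensorProduct.map ε (AlgHom.id k B)
          (Algebra.TensorProduct.map e.symm.toAlgHom e.symm.toAlgHom
              (CoalgebraStruct.comul (R := k) (e b))) = _
      rw [h, Coalgebra.rTensor_counit_comul]
      simp)
    (by
      apply AlgHom.ext
      intro b
      have h : ∀ z : A ⊗[k] A, Algebra.TensorProduct.map (AlgHom.id k B) ε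
          (Algebra.TensorProduct.map e.symm.toAlgHom e.symm.toAlgHom z) =
          LinearMap.rTensor k e.symm.toLinearMap
            (LinearMap.lTensor A (CoalgebraStruct.counit (R := k)) z) := by
        intro z
        induction z using TensorProduct.induction_on with
        | zero => simp
        | add z w hz hw => simp only [map_add, hz, hw]
        | tmul x y => simp [ε]
      show Algebra.TensorProduct.map (AlgHom.id k B) ε
          (Algebra.TensorProduct.map e.symm.toAlgHom e.symm.toAlgHom
              (CoalgebraStruct.comul (R := k) (e b))) = _
      rw [h, Coalgebra.lTensor_counit_comul]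
      simp)
  { antipode := e.symm.toLinearMap ∘ₗ HopfAlgebraStruct.antipode (R := k) ∘ₗ e.toLinearMap
    mul_antipode_rTensor_comul := by
      apply LinearMap.ext
      intro b
      apply e.injective
      have h : ∀ z : A ⊗[k] A, e (LinearMap.mul' k B
          ((e.symm.toLinearMap ∘ₗ HopfAlgebraStruct.antipode (R := k) ∘ₗ e.toLinearMap).rTensor B
            (Algebra.TensorProduct.map e.symm.toAlgHom e.symm.toAlgHom z))) =
          LinearMap.mul' k A ((HopfAlgebraStruct.antipode (R := k)).rTensor A z) := by
        intro z
        induction z using TensorProduct.induction_on with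
        | zero => simp
        | add z w hz hw => simp only [map_add, hz, hw]
        | tmul x y => simp
      show e (LinearMap.mul' k B
          ((e.symm.toLinearMap ∘ₗ HopfAlgebraStruct.antipode (R := k) ∘ₗ e.toLinearMap).rTensor B
            (Algebra.TensorProduct.map e.symm.toAlgHom e.symm.toAlgHom
              (CoalgebraStruct.comul (R := k) (e b))))) = e (algebraMap k B (ε b))
      rw [h, HopfAlgebra.mul_antipode_rTensor_comul_apply, AlgEquiv.commutes]
      rfl
    mul_antipode_lTensor_comul := by
      apply LinearMap.ext
      intro b
      apply e.injective
      have h : ∀ z : A ⊗[k] A, e (LinearMap.mul' k B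
          ((e.symm.toLinearMap ∘ₗ HopfAlgebraStruct.antipode (R := k) ∘ₗ e.toLinearMap).lTensor B
            (Algebra.TensorProduct.map e.symm.toAlgHom e.symm.toAlgHom z))) =
          LinearMap.mul' k A ((HopfAlgebraStruct.antipode (R := k)).lTensor A z) := by
        intro z
        induction z using TensorProduct.induction_on with
        | zero => simp
        | add z w hz hw => simp only [map_add, hz, hw]
        | tmul x y => simp
      show e (LinearMap.mul' k B
          ((e.symm.toLinearMap ∘ₗ HopfAlgebraStruct.antipode (R := k) ∘ₗ e.toLinearMap).lTensor B
            (Algebra.TensorProduct.map e.symm.toAlgHom e.symm.toAlgHom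
              (CoalgebraStruct.comul (R := k) (e b))))) = e (algebraMap k B (ε b))
      rw [h, HopfAlgebra.mul_antipode_lTensor_comul_apply, AlgEquiv.commutes]
      rfl }

end Groth.Agent.HopfFF
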