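/-
Finite group schemes over a field: order of the connected part and `g ^ n = 1`.
-/
import Groth.Agent.HopfFFLib.FrobHopf
import Groth.Agent.HopfFFLib.Transfer
import Groth.Agent.GrpSchLib.HopfRedQuot
import Mathlib.RingTheory.HopfAlgebra.TensorProduct
import Mathlib.RingTheory.HopfAlgebra.Quotient

set_option autoImplicit false

universe u v w

open IsLocalRing TensorProduct WithConv
open Groth.Agent.GrpSchLib.HopfRed

namespace Groth.Agent.HopfFF

/-- In a finite-dimensional algebra an ideal in the radical dies at the power `dim`. -/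
theorem pow_finrank_eq_bot {k : Type u} [Field k] {A : Type v} [CommRing A] [Algebra k A]
    [Module.Finite k A] (I : Ideal A) (hI : I ≤ Ideal.jacobson ⊥) :
    I ^ Module.finrank k A = ⊥ := by
  have : IsArtinianRing A := IsArtinianRing.of_finite k A
  have key : ∀ j, I ^ j = ⊥ ∨
      Module.finrank k ((I ^ j).restrictScalars k) + j ≤ Module.finrank k A := by
    intro j
    induction j with
    | zero => exact Or.inr (by simpa using Submodule.finrank_le _)
    | succ j ih =>
      rcases ih with h | h
      · exact Or.inl (by rw [pow_succ, h, Ideal.bot_mul])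
      · by_cases hb : I ^ (j + 1) = ⊥
        · exact Or.inl hb
        · have hlt : (I ^ (j + 1)).restrictScalars k < (I ^ j).restrictScalars k := by
            refine lt_of_le_of_ne (Ideal.pow_le_pow_right j.le_succ) fun he => hb ?_
            have he' : I ^ (j + 1) = I ^ j := Submodule.restrictScalars_injective k _ _ he
            rw [he']
            refine Submodule.eq_bot_of_le_smul_of_le_jacobson_bot I _
              (IsNoetherian.noetherian _) ?_ hI
            rw [smul_eq_mul, ← pow_succ']
            exact he'.ge
          have := Submodule.finrank_lt_finrank_of_lt hlt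
          exact Or.inr (by omega)
  rcases key (Module.finrank k A) with h | h
  · exact h
  · have h0 : Module.finrank k ((I ^ Module.finrank k A).restrictScalars k) = 0 := by omega
    exact (Submodule.restrictScalars_eq_bot_iff _ _ _).1 (Submodule.finrank_eq_zero.1 h0)

/-- Infinitesimal groups over a perfect field have order a power of the exponential
characteristic. -/
theorem exists_finrank_eq_expChar_pow {k : Type u} [Field k] [PerfectField k] (q : ℕ)
    [ExpChar k q] (A : Type v) [CommRing A] [HopfAlgebra k A] [Module.Finite k A] [IsLocalRing A] :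
    ∃ n, Module.finrank k A = q ^ n := by
  rcases ‹ExpChar k q› with _ | hq
  · have : IsArtinianRing A := IsArtinianRing.of_finite k A
    have : IsReduced A := isReduced_of_finiteType (k := k)
    have hfld := IsArtinianRing.isField_of_isReduced_of_isLocalRing A
    let := hfld.toField
    have hinj : Function.Injective (cou (k := k) (B := A)) :=
      (cou (k := k) (B := A)).toRingHom.injective
    exact ⟨0, by
      rw [(AlgEquiv.ofBijective _ ⟨hinj, fun c => ⟨algebraMap k A c, by simp⟩⟩).toLinearEquiv.finrank_eq]
      simp⟩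
  · haveI : Fact q.Prime := ⟨hq⟩
    haveI : PerfectRing k q := PerfectField.toPerfectRing q
    obtain ⟨A₀, _, _, -, ⟨e⟩⟩ := exists_small (k := k) A
    let alg : HopfAlgebra k A₀ := hopfTransfer e
    haveI : Module.Finite k A₀ := Module.Finite.equiv e.symm.toLinearEquiv
    haveI : IsLocalRing A₀ := e.symm.toRingEquiv.isLocalRing
    obtain ⟨n, hn⟩ := exists_finrank_eq_pow_of_perfect (k := k) q _ A₀ rfl
    exact ⟨n, by rw [← e.toLinearEquiv.finrank_eq]; exact hn⟩

/-- The augmentation elements are nilpotent in a local finite Hopf algebra. -/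
theorem isLocalRing_baseChange {k : Type u} [Field k] {A : Type v} [CommRing A] [HopfAlgebra k A]
    [Module.Finite k A] [IsLocalRing A] (L : Type w) [Field L] [Algebra k L] :
    IsLocalRing (L ⊗[k] A) := by
  haveI : IsArtinianRing A := IsArtinianRing.of_finite k A
  have hnil : IsNilpotent (augI L (L ⊗[k] A)) := by
    rw [augI_baseChange]
    refine ⟨Module.finrank k A, ?_⟩
    rw [← Ideal.map_pow, pow_finrank_eq_bot, Ideal.map_bot]
    · rfl
    · rw [IsLocalRing.jacobson_eq_maximalIdeal ⊥ bot_ne_top]
      exact IsLocalRing.le_maximalIdeal (RingHom.ker_ne_top _)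
  obtain ⟨N, hN⟩ := hnil
  haveI : Nontrivial (L ⊗[k] A) := (cou (k := L) (B := L ⊗[k] A)).toRingHom.domain_nontrivial
  refine IsLocalRing.of_isUnit_or_isUnit_of_isUnit_add fun {a b} hab => ?_
  have hunit : ∀ a : L ⊗[k] A, cou (k := L) a ≠ 0 → IsUnit a := by
    intro a ha
    have h : IsNilpotent (a - algebraMap L (L ⊗[k] A) (cou (k := L) a)) := by
      refine ⟨N, ?_⟩
      have := Ideal.pow_mem_pow (sub_mem_augI (k := L) a) N
      rwa [hN] at this
    have := h.isUnit_add_left_of_commute
      ((isUnit_iff_ne_zero.2 ha).map (algebraMap L (L ⊗[k] A))) (Commute.all _ _)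
    rwa [add_sub_cancel] at this
  by_cases ha : cou (k := L) a = 0
  · refine Or.inr (hunit b fun hb => ?_)
    have := (hab.map (cou (k := L) (B := L ⊗[k] A))).ne_zero
    rw [map_add, ha, hb, add_zero] at this
    exact this rfl
  · exact Or.inl (hunit a ha)

/-- Infinitesimal groups have order a power of the exponential characteristic. -/
theorem exists_finrank_eq_expChar_pow' {k : Type u} [Field k] (q : ℕ) [ExpChar k q] (A : Type v)
    [CommRing A] [HopfAlgebra k A] [Module.Finite k A] [IsLocalRing A] :
    ∃ n, Module.finrank k A = q ^ n := by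
  let L := AlgebraicClosure k
  haveI : ExpChar L q := expChar_of_injective_algebraMap (algebraMap k L).injective q
  haveI := isLocalRing_baseChange (k := k) (A := A) L
  obtain ⟨n, hn⟩ := exists_finrank_eq_expChar_pow (k := L) q (L ⊗[k] A)
  exact ⟨n, by rw [← hn, Module.finrank_baseChange]⟩

section closed

variable {k : Type u} [Field k] {A : Type v} [CommRing A] [HopfAlgebra k A] [Module.Finite k A]

/-- The ideal of the identity component. -/
noncomputable def compIdeal (k : Type u) [Field k] (A : Type v) [CommRing A] [HopfAlgebra k A] :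
    Ideal A :=
  augI k A ^ Module.finrank k A

theorem augI_pow_add (n : ℕ) :
    compIdeal k A ≤ augI k A ^ n := by
  unfold compIdeal
  set N := Module.finrank k A with hN
  by_cases hle : n ≤ N
  · exact Ideal.pow_le_pow_right hle
  have key : ∀ j, Module.finrank k ((augI k A ^ j).restrictScalars k) + j ≤ N ∨
      ∃ i ≤ j, augI k A ^ (i + 1) = augI k A ^ i := by
    intro j
    induction j with
    | zero => exact Or.inl (by simpa [hN] using Submodule.finrank_le _)
    | succ j ih =>
      rcases ih with h | ⟨i, hi, he⟩
      · by_cases he : augI k A ^ (j + 1) = augI k A ^ j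
        · exact Or.inr ⟨j, j.le_succ, he⟩
        · have hlt : (augI k A ^ (j + 1)).restrictScalars k < (augI k A ^ j).restrictScalars k :=
            lt_of_le_of_ne (Ideal.pow_le_pow_right j.le_succ)
              fun h' => he (Submodule.restrictScalars_injective k _ _ h')
          have := Submodule.finrank_lt_finrank_of_lt hlt
          exact Or.inl (by omega)
      · exact Or.inr ⟨i, hi.trans j.le_succ, he⟩
  have stab : ∀ i, augI k A ^ (i + 1) = augI k A ^ i →
      ∀ j, i ≤ j → augI k A ^ j = augI k A ^ i := by
    intro i hi j hj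
    induction j, hj using Nat.le_induction with
    | base => rfl
    | succ j _ ih => rw [pow_succ, ih, ← pow_succ, hi]
  rcases key N with h | ⟨i, hi, he⟩
  · have h0 : Module.finrank k ((augI k A ^ N).restrictScalars k) = 0 := by omega
    rw [(Submodule.restrictScalars_eq_bot_iff _ _ _).1 (Submodule.finrank_eq_zero.1 h0)]
    exact bot_le
  · rw [stab i he N hi, stab i he n (by omega)]

theorem map_comul_compIdeal {x : A} (hx : x ∈ compIdeal k A) :
    Algebra.TensorProduct.map (Ideal.Quotient.mkₐ k (compIdeal k A))
      (Ideal.Quotient.mkₐ k (compIdeal k A)) (CoalgebraStruct.comul (R := k) x) = 0 := by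
  let π := Ideal.Quotient.mkₐ k (compIdeal k A)
  let N := Module.finrank k A
  let K : Ideal ((A ⧸ compIdeal k A) ⊗[k] (A ⧸ compIdeal k A)) :=
    ((augI k A).map π).map (Algebra.TensorProduct.includeLeft (R := k) (S := k)) ⊔
      ((augI k A).map π).map (Algebra.TensorProduct.includeRight (R := k))
  have hπN : ((augI k A).map π) ^ N = ⊥ := by
    rw [← Ideal.map_pow, ← le_bot_iff, Ideal.map_le_iff_le_comap]
    intro a ha
    rw [Ideal.mem_comap, Ideal.mem_bot]
    exact Ideal.Quotient.eq_zero_iff_mem.2 ha
  have hK : K ^ (N + N) = ⊥ := by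
    refine le_bot_iff.1 (Ideal.sup_pow_add_le_pow_sup_pow.trans ?_)
    rw [← Ideal.map_pow, hπN, Ideal.map_bot, ← Ideal.map_pow, hπN, Ideal.map_bot, bot_sup_eq]
  let g : A →ₐ[k] (A ⧸ compIdeal k A) ⊗[k] (A ⧸ compIdeal k A) :=
    (Algebra.TensorProduct.map π π).comp (Bialgebra.comulAlgHom k A)
  have hz : ∀ z : A ⊗[k] A, Algebra.TensorProduct.map π π z -
      algebraMap k _ (TensorProduct.lid k k
        (TensorProduct.map (CoalgebraStruct.counit (R := k)) (CoalgebraStruct.counit (R := k)) z))
      ∈ K := by
    intro z
    induction z using TensorProduct.induction_on with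
    | zero => simp
    | add z w hz hw =>
      simp only [map_add, add_sub_add_comm]
      exact add_mem hz hw
    | tmul a b =>
      have h1 : π (a - algebraMap k A (cou (k := k) a)) ∈ (augI k A).map π :=
        Ideal.mem_map_of_mem _ (sub_mem_augI a)
      have h2 : π (b - algebraMap k A (cou (k := k) b)) ∈ (augI k A).map π :=
        Ideal.mem_map_of_mem _ (sub_mem_augI b)
      have key : Algebra.TensorProduct.map π π (a ⊗ₜ b) -
          algebraMap k _ (cou (k := k) a * cou (k := k) b) =
          π (a - algebraMap k A (cou (k := k) a)) ⊗ₜ[k] (1 : A ⧸ compIdeal k A) *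
              (1 : A ⧸ compIdeal k A) ⊗ₜ[k] π b +
            algebraMap k _ (cou (k := k) a) *
              (1 : A ⧸ compIdeal k A) ⊗ₜ[k] π (b - algebraMap k A (cou (k := k) b)) := by
        simp only [map_sub, AlgHom.commutes, Algebra.TensorProduct.map_tmul, sub_tmul, tmul_sub,
          mul_sub, sub_mul, Algebra.TensorProduct.algebraMap_apply,
          Algebra.TensorProduct.tmul_mul_tmul, one_mul, mul_one]
        simp only [Algebra.algebraMap_eq_smul_one, smul_tmul', tmul_smul, smul_smul, one_mul,
          mul_one, smul_mul_assoc, mul_comm (cou (k := k) b)]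
        abel
      have hl : (TensorProduct.lid k k (TensorProduct.map (CoalgebraStruct.counit (R := k))
          (CoalgebraStruct.counit (R := k)) (a ⊗ₜ b))) = cou (k := k) a * cou (k := k) b := by
        simp [cou]
      rw [hl, key]
      exact add_mem (Ideal.mul_mem_right _ _ (Submodule.mem_sup_left (Ideal.mem_map_of_mem _ h1)))
        (Ideal.mul_mem_left _ _ (Submodule.mem_sup_right (Ideal.mem_map_of_mem _ h2)))
  have hg : (augI k A).map g ≤ K := by
    rw [Ideal.map_le_iff_le_comap]
    intro a ha
    have := hz (CoalgebraStruct.comul (R := k) a)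
    have hεε : TensorProduct.lid k k (TensorProduct.map (CoalgebraStruct.counit (R := k))
        (CoalgebraStruct.counit (R := k)) (CoalgebraStruct.comul (R := k) a)) = cou (k := k) a := by
      rw [← LinearMap.lTensor_comp_rTensor, LinearMap.comp_apply, Coalgebra.rTensor_counit_comul]
      simp [cou]
    rw [hεε, RingHom.mem_ker.1 ha, map_zero, sub_zero] at this
    exact this
  have : g x ∈ K ^ (N + N) := by
    have h := Ideal.mem_map_of_mem g (augI_pow_add (N + N) hx)
    rw [Ideal.map_pow] at h
    exact Ideal.pow_right_mono hg _ h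
  rw [hK, Ideal.mem_bot] at this
  exact this

instance isHopfIdeal_compIdeal : (compIdeal k A).IsHopfIdeal k where
  counit_eq_zero x hx := by
    rcases Nat.eq_zero_or_pos (Module.finrank k A) with h | h
    · haveI := (cou (k := k) (B := A)).toRingHom.domain_nontrivial
      exact absurd h (Module.finrank_pos (R := k) (M := A)).ne'
    · have h' : x ∈ augI k A := Ideal.pow_le_self h.ne' hx
      rw [RingHom.mem_ker] at h'
      exact h'
  map_mkQ_comul_eq_zero x hx := by
    let e := Submodule.Quotient.restrictScalarsEquiv k (compIdeal k A)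
    apply (TensorProduct.congr e e).injective
    rw [map_zero]
    refine Eq.trans ?_ (map_comul_compIdeal (x := x) hx)
    generalize CoalgebraStruct.comul (R := k) x = z
    induction z using TensorProduct.induction_on with
    | zero => simp
    | add z w hz hw => simp only [map_add, hz, hw]
    | tmul a b => rfl
  antipode_mem x hx := by
    have h := Ideal.mem_map_of_mem (HopfAlgebra.antipodeAlgHom k A) hx
    rw [compIdeal, Ideal.map_pow] at h
    refine Ideal.pow_right_mono (Ideal.map_le_iff_le_comap.2 fun a ha => ?_) _ h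
    simpa [augI, cou, RingHom.mem_ker] using ha

theorem isLocalRing_comp : IsLocalRing (A ⧸ compIdeal k A) := by
  haveI : Nontrivial A := (cou (k := k) (B := A)).toRingHom.domain_nontrivial
  have hpos := (Module.finrank_pos (R := k) (M := A)).ne'
  have hle : compIdeal k A ≤ augI k A := Ideal.pow_le_self hpos
  have hsub : ∀ a : A ⧸ compIdeal k A, ∀ c : A, Ideal.Quotient.mk _ c = a →
      cou (k := k) c ≠ 0 → IsUnit a := by
    intro a c hc h0
    have h : IsNilpotent (Ideal.Quotient.mk (compIdeal k A)
        (c - algebraMap k A (cou (k := k) c))) := by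
      refine ⟨Module.finrank k A, ?_⟩
      rw [← map_pow, Ideal.Quotient.eq_zero_iff_mem]
      exact Ideal.pow_mem_pow (sub_mem_augI c) _
    have := h.isUnit_add_left_of_commute
      (((isUnit_iff_ne_zero.2 h0).map (algebraMap k A)).map (Ideal.Quotient.mk (compIdeal k A)))
      (Commute.all _ _)
    rwa [← map_add, add_sub_cancel, hc] at this
  haveI : Nontrivial (A ⧸ compIdeal k A) :=
    Ideal.Quotient.nontrivial_iff.2 fun h => RingHom.ker_ne_top (cou (k := k) (B := A))
      (top_le_iff.1 (h ▸ hle))
  refine IsLocalRing.of_isUnit_or_isUnit_of_isUnit_add fun {a b} hab => ?_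
  obtain ⟨c, rfl⟩ := Ideal.Quotient.mk_surjective a
  obtain ⟨d, rfl⟩ := Ideal.Quotient.mk_surjective b
  by_cases hc : cou (k := k) c = 0
  · refine Or.inr (hsub _ d rfl fun hd => ?_)
    have : Ideal.Quotient.mk (compIdeal k A) (c + d) ∈
        (augI k A).map (Ideal.Quotient.mk (compIdeal k A)) :=
      Ideal.mem_map_of_mem _ (by
        show cou (k := k) (c + d) = 0
        rw [map_add, hc, hd, add_zero])
    have htop := Ideal.eq_top_of_isUnit_mem _ this hab
    have h1 : (1 : A) ∈ augI k A := by
      have hh : (1 : A) ∈ Ideal.comap (Ideal.Quotient.mk (compIdeal k A))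
          ((augI k A).map (Ideal.Quotient.mk (compIdeal k A))) := by
        rw [htop]; trivial
      rw [Ideal.comap_map_of_surjective _ Ideal.Quotient.mk_surjective, ← RingHom.ker_eq_comap_bot,
        Ideal.mk_ker, sup_eq_left.2 hle] at hh
      exact hh
    simp [RingHom.mem_ker] at h1
  · exact Or.inl (hsub _ c rfl hc)

variable [IsAlgClosed k]

theorem finrank_quotient_point (g : A →ₐ[k] k) :
    Module.finrank k (A ⧸ RingHom.ker g ^ Module.finrank k A) =
      Module.finrank k (A ⧸ compIdeal k A) := by
  refine (Ideal.quotientEquivAlg _ _ (translEquiv g) ?_).toLinearEquiv.finrank_eq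
  rw [compIdeal, Ideal.map_pow]
  congr 1
  apply le_antisymm
  · intro a ha
    refine (Ideal.mem_map_iff_of_surjective _ (translEquiv g).surjective).2
      ⟨(translEquiv g).symm a, ?_, (translEquiv g).apply_symm_apply a⟩
    rw [RingHom.mem_ker, ← cou_translEquiv, AlgEquiv.apply_symm_apply]
    exact ha
  · rw [Ideal.map_le_iff_le_comap]
    intro a ha
    rw [Ideal.mem_comap, RingHom.mem_ker]
    show cou (k := k) (translEquiv g a) = 0
    rw [cou_translEquiv]
    exact ha

theorem exists_point (M : Ideal A) [M.IsMaximal] : ∃ g : A →ₐ[k] k, RingHom.ker g = M := by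
  let : Field (A ⧸ M) := Ideal.Quotient.field M
  let e : k ≃ₐ[k] (A ⧸ M) := AlgEquiv.ofBijective (Algebra.ofId k (A ⧸ M))
    (IsAlgClosed.algebraMap_bijective_of_isIntegral)
  refine ⟨e.symm.toAlgHom.comp (Ideal.Quotient.mkₐ k M), ?_⟩
  ext a
  simp [RingHom.mem_ker, Ideal.Quotient.eq_zero_iff_mem]

/-- The order is (number of points) · (order of the identity component), and the power of the
nilradical dying is at most the latter. -/
theorem card_points_mul (q : ℕ) (hq : Module.finrank k (A ⧸ compIdeal k A) = q) :
    Module.finrank k A = Nat.card (A →ₐ[k] k) * q ∧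
      (⨅ g : A →ₐ[k] k, RingHom.ker g) ^ q = ⊥ := by
  classical
  haveI : IsArtinianRing A := IsArtinianRing.of_finite k A
  haveI : Finite (A →ₐ[k] k) := inferInstance
  haveI := Fintype.ofFinite (A →ₐ[k] k)
  set N := Module.finrank k A with hN
  haveI : Nontrivial A := (cou (k := k) (B := A)).toRingHom.domain_nontrivial
  have hNpos : N ≠ 0 := (Module.finrank_pos (R := k) (M := A)).ne'
  have hmax : ∀ g : A →ₐ[k] k, (RingHom.ker g).IsMaximal := fun g =>
    RingHom.ker_isMaximal_of_surjective g fun c => ⟨algebraMap k A c, by simp⟩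
  have hinj : ∀ g h : A →ₐ[k] k, g ≠ h → RingHom.ker g ≠ RingHom.ker h := by
    intro g h hne he
    apply hne
    ext a
    have : a - algebraMap k A (g a) ∈ RingHom.ker h := he ▸ (by simp [RingHom.mem_ker])
    rw [RingHom.mem_ker, map_sub, AlgHom.commutes, sub_eq_zero] at this
    simpa using this.symm
  have hcop : Pairwise fun g h : A →ₐ[k] k =>
      IsCoprime (RingHom.ker g ^ N) (RingHom.ker h ^ N) := by
    intro g h hne
    exact IsCoprime.pow ((Ideal.isCoprime_iff_sup_eq).2
      ((hmax g).coprime_of_ne (hmax h) (hinj g h hne)))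
  have hrad : (⨅ g : A →ₐ[k] k, RingHom.ker g) ≤ Ideal.jacobson ⊥ := by
    refine le_sInf fun M hM => ?_
    haveI := hM.2
    obtain ⟨g, hg⟩ := exists_point (k := k) M
    exact hg ▸ iInf_le _ g
  have hinf : (⨅ g : A →ₐ[k] k, RingHom.ker g ^ N) = ⊥ := by
    have hcop1 : Pairwise fun g h : A →ₐ[k] k => IsCoprime (RingHom.ker g) (RingHom.ker h) :=
      fun g h hne => (Ideal.isCoprime_iff_sup_eq).2
        ((hmax g).coprime_of_ne (hmax h) (hinj g h hne))
    have h1 : (⨅ g : A →ₐ[k] k, RingHom.ker g ^ N) = ∏ g : A →ₐ[k] k, RingHom.ker g ^ N := by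
      rw [Ideal.prod_eq_iInf_of_pairwise_isCoprime (fun g _ h _ hne => hcop hne)]
      simp
    have h2 : (⨅ g : A →ₐ[k] k, RingHom.ker g) = ∏ g : A →ₐ[k] k, RingHom.ker g := by
      rw [Ideal.prod_eq_iInf_of_pairwise_isCoprime (fun g _ h _ hne => hcop1 hne)]
      simp
    rw [h1, Finset.prod_pow, ← h2, hN]
    exact pow_finrank_eq_bot _ hrad
  constructor
  · let e : A ≃ₗ[k] ∀ g : A →ₐ[k] k, A ⧸ RingHom.ker g ^ N :=
      LinearEquiv.ofBijective (LinearMap.pi fun g => (Ideal.Quotient.mkₐ k _).toLinearMap)
        ⟨(injective_iff_map_eq_zero _).2 fun a ha => by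
            have : a ∈ (⨅ g : A →ₐ[k] k, RingHom.ker g ^ N) := by
              simp only [Submodule.mem_iInf]
              exact fun g => Ideal.Quotient.eq_zero_iff_mem.1 (congrFun ha g)
            rwa [hinf, Ideal.mem_bot] at this,
          fun y => by
            obtain ⟨a, ha⟩ := Ideal.exists_forall_sub_mem_ideal hcop
              (fun g => (Ideal.Quotient.mk_surjective (y g)).choose)
            refine ⟨a, funext fun g => ?_⟩
            rw [← (Ideal.Quotient.mk_surjective (y g)).choose_spec]
            exact Ideal.Quotient.eq.2 (ha g)⟩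
    show Module.finrank k A = _
    rw [e.finrank_eq, Module.finrank_pi_fintype, Finset.sum_congr rfl
      fun g _ => (finrank_quotient_point g).trans hq, Finset.sum_const, smul_eq_mul,
      Nat.card_eq_fintype_card, Finset.card_univ]
  · have hle : ∀ g : A →ₐ[k] k, RingHom.ker g ^ q ≤ RingHom.ker g ^ N := by
      intro g
      have hM : (RingHom.ker g).map (Ideal.Quotient.mk (RingHom.ker g ^ N)) ≤
          Ideal.jacobson ⊥ := by
        intro a ha
        refine Ideal.radical_le_jacobson ⟨N, ?_⟩
        have := Ideal.pow_mem_pow ha N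
        rw [← Ideal.map_pow, Ideal.map_quotient_self] at this
        exact this
      have h := pow_finrank_eq_bot (k := k) _ hM
      rw [finrank_quotient_point g, hq, ← Ideal.map_pow, Ideal.map_eq_bot_iff_le_ker,
        Ideal.mk_ker] at h
      exact h
    rw [← le_bot_iff, ← hinf]
    exact le_iInf fun g => (Ideal.pow_right_mono (iInf_le _ g) q).trans (hle g)

theorem mem_pow_of_convPow {C : Type w} [AddCommMonoid C] [Module k C] [Coalgebra k C]
    (I : Ideal A) (f : WithConv (C →ₗ[k] A)) (hf : ∀ c, f c ∈ I) :
    ∀ (n : ℕ) (c : C), (f ^ n) c ∈ I ^ n := by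
  intro n
  induction n with
  | zero => intro c; simp
  | succ n ih =>
    intro c
    rw [pow_succ f, LinearMap.convMul_apply, pow_succ I]
    generalize CoalgebraStruct.comul (R := k) c = z
    induction z using TensorProduct.induction_on with
    | zero => simp
    | add z w hz hw => simp only [map_add]; exact add_mem hz hw
    | tmul a b =>
      rw [TensorProduct.map_tmul, LinearMap.mul'_apply]
      exact Ideal.mul_mem_mul (ih a) (hf b)

/-- The order kills a finite group scheme over an algebraically closed field. -/
theorem convPow_id_eq_one_of_isAlgClosed :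
    (toConv (AlgHom.id k A)) ^ Module.finrank k A = 1 := by
  classical
  let p := ringExpChar k
  haveI : ExpChar k p := inferInstance
  haveI := isLocalRing_comp (k := k) (A := A)
  obtain ⟨a, ha⟩ := exists_finrank_eq_expChar_pow (k := k) p (A ⧸ compIdeal k A)
  obtain ⟨hcard, hrad⟩ := card_points_mul (k := k) (A := A) (p ^ a) ha
  haveI : Finite (A →ₐ[k] k) := inferInstance
  haveI : Finite (WithConv (A →ₐ[k] k)) := Finite.of_injective ofConv ofConv_injective
  set m := Nat.card (A →ₐ[k] k) with hm
  set f := toConv (AlgHom.id k A) ^ m with hfdef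
  have hpts : ∀ (g : A →ₐ[k] k) (c : A), g (f.ofConv c) = cou (k := k) c := by
    intro g c
    have h : ∀ j : ℕ, toConv (g.comp (toConv (AlgHom.id k A) ^ j).ofConv) = toConv g ^ j := by
      intro j
      induction j with
      | zero =>
        simp only [pow_zero, AlgHom.convOne_def, ofConv_toConv, ← AlgHom.comp_assoc]
        congr 2
        exact Subsingleton.elim _ _
      | succ j ih => rw [pow_succ, pow_succ, AlgHom.comp_convMul_distrib, ih, toConv_ofConv,
          ofConv_toConv, AlgHom.comp_id]
    have h2 : g.comp f.ofConv = cou (k := k) := by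
      have := h m
      rw [show toConv g ^ m = 1 by
        rw [hm, ← Nat.card_congr (WithConv.equiv (A →ₐ[k] k))]; exact pow_card_eq_one'] at this
      rw [← one_eq_cou, ← this]
    exact AlgHom.congr_fun h2 c
  let F : WithConv (A →ₗ[k] A) := toConv f.ofConv.toLinearMap
  have hF : ∀ c, (F - 1) c ∈ ⨅ g : A →ₐ[k] k, RingHom.ker g := by
    intro c
    simp only [Submodule.mem_iInf, RingHom.mem_ker]
    intro g
    show g (f.ofConv c - algebraMap k A (CoalgebraStruct.counit (R := k) c)) = 0
    rw [map_sub, hpts, AlgHom.commutes]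
    simp [cou]
  have h0 : (F - 1) ^ p ^ a = 0 := by
    apply WithConv.ext
    apply LinearMap.ext
    intro c
    have := mem_pow_of_convPow (k := k) _ _ hF (p ^ a) c
    rw [hrad, Ideal.mem_bot] at this
    exact this
  haveI : Nontrivial A := (cou (k := k) (B := A)).toRingHom.domain_nontrivial
  haveI : Nontrivial (WithConv (A →ₗ[k] A)) := by
    refine ⟨1, 0, fun h => one_ne_zero (α := A) ?_⟩
    simpa using congrArg (fun F : WithConv (A →ₗ[k] A) => F 1) h
  haveI : ExpChar (WithConv (A →ₗ[k] A)) p :=
    expChar_of_injective_algebraMap (algebraMap k (WithConv (A →ₗ[k] A))).injective p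
  rw [sub_pow_expChar_pow_of_commute p a (Commute.one_right F), one_pow, sub_eq_zero] at h0
  apply WithConv.ext
  apply AlgHom.toLinearMap_injective
  apply toConv_injective
  rw [AlgHom.toLinearMap_convPow, AlgHom.toLinearMap_convOne, hcard, pow_mul,
    ← AlgHom.toLinearMap_convPow]
  exact h0

end closed

/-- The order kills a finite group scheme. -/
theorem convPow_id_eq_one {k : Type u} [Field k] {A : Type v} [CommRing A] [HopfAlgebra k A]
    [Module.Finite k A] : (toConv (AlgHom.id k A)) ^ Module.finrank k A = 1 := by
  let L := AlgebraicClosure k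
  have hL := convPow_id_eq_one_of_isAlgClosed (k := L) (A := L ⊗[k] A)
  rw [Module.finrank_baseChange] at hL
  let ι : A →ₐ[k] L ⊗[k] A := Algebra.TensorProduct.includeRight
  have hι : Function.Injective ι :=
    Algebra.TensorProduct.includeRight_injective (algebraMap k L).injective
  have key : ∀ (n : ℕ) (a : A),
      (toConv (AlgHom.id L (L ⊗[k] A)) ^ n).ofConv (ι a) =
        ι ((toConv (AlgHom.id k A) ^ n).ofConv a) := by
    intro n
    induction n with
    | zero =>
      intro a
      simp [ι, Algebra.algebraMap_eq_smul_one, Algebra.TensorProduct.one_def]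
    | succ n ih =>
      intro a
      rw [pow_succ, pow_succ, AlgHom.convMul_apply, AlgHom.convMul_apply]
      simp only [ι, Algebra.TensorProduct.includeRight_apply] at ih ⊢
      rw [TensorProduct.comul_tmul, Bialgebra.comul_one]
      generalize CoalgebraStruct.comul (R := k) a = z
      induction z using TensorProduct.induction_on with
      | zero => simp
      | add z w hz hw => simp only [tmul_add, map_add, hz, hw]
      | tmul x y => simp [Algebra.TensorProduct.one_def, ih]
  apply WithConv.ext
  apply AlgHom.ext
  intro a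
  apply hι
  rw [← key, hL]
  simp [ι, Algebra.algebraMap_eq_smul_one, Algebra.TensorProduct.one_def]

end Groth.Agent.HopfFF
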