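/-
First consequences of faithful flatness over sub-Hopf-algebras.
-/
import Groth.Agent.HopfFFLib.Injective
import Groth.Agent.HopfFFLib.Order
import Groth.Agent.AlgSpLib.ReducedSmooth
import Mathlib.RingTheory.Flat.FaithfullyFlat.Algebra
import Mathlib.RingTheory.Jacobson.Ring

set_option autoImplicit false

universe u v w z

open TensorProduct WithConv
open Groth.Agent.GrpSchLib.HopfRed

namespace Groth.Agent.HopfFF

section conv

variable {k : Type u} [Field k] {A : Type v} [CommRing A] [HopfAlgebra k A]
  {R : Type z} [CommRing R] [Algebra k R]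

theorem conv_comp_antipode_mul (g : A →ₐ[k] R) :
    toConv (g.comp (HopfAlgebra.antipodeAlgHom k A)) * toConv g = 1 := by
  have hid : toConv (HopfAlgebra.antipodeAlgHom k A) * toConv (AlgHom.id k A) = 1 := by
    apply WithConv.ext
    apply AlgHom.toLinearMap_injective
    apply toConv_injective
    rw [AlgHom.toLinearMap_convMul, AlgHom.toLinearMap_convOne]
    exact LinearMap.antipode_mul_id
  have h := AlgHom.comp_convMul_distrib g (toConv (HopfAlgebra.antipodeAlgHom k A))
    (toConv (AlgHom.id k A))
  rw [hid] at h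
  simp only [AlgHom.comp_id] at h
  apply WithConv.ext
  rw [← h]
  ext a
  simp

theorem conv_mul_comp_antipode (g : A →ₐ[k] R) :
    toConv g * toConv (g.comp (HopfAlgebra.antipodeAlgHom k A)) = 1 := by
  have hid : toConv (AlgHom.id k A) * toConv (HopfAlgebra.antipodeAlgHom k A) = 1 := by
    apply WithConv.ext
    apply AlgHom.toLinearMap_injective
    apply toConv_injective
    rw [AlgHom.toLinearMap_convMul, AlgHom.toLinearMap_convOne]
    exact LinearMap.id_mul_antipode
  have h := AlgHom.comp_convMul_distrib g (toConv (AlgHom.id k A))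
    (toConv (HopfAlgebra.antipodeAlgHom k A))
  rw [hid] at h
  simp only [AlgHom.comp_id] at h
  apply WithConv.ext
  rw [← h]
  ext a
  simp

/-- `Δ ∘ S = τ ∘ (S ⊗ S) ∘ Δ`. -/
theorem comul_antipode (a : A) :
    CoalgebraStruct.comul (R := k) (HopfAlgebra.antipodeAlgHom k A a) =
      TensorProduct.comm k A A (Algebra.TensorProduct.map (HopfAlgebra.antipodeAlgHom k A)
        (HopfAlgebra.antipodeAlgHom k A) (CoalgebraStruct.comul (R := k) a)) := by
  let S := HopfAlgebra.antipodeAlgHom k A
  let inL : A →ₐ[k] A ⊗[k] A := Algebra.TensorProduct.includeLeft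
  let inR : A →ₐ[k] A ⊗[k] A := Algebra.TensorProduct.includeRight
  have hδ : toConv (Bialgebra.comulAlgHom k A) = toConv inL * toConv inR := by
    apply WithConv.ext
    apply AlgHom.ext
    intro x
    show CoalgebraStruct.comul (R := k) x = (toConv inL * toConv inR) x
    rw [AlgHom.convMul_apply]
    generalize CoalgebraStruct.comul (R := k) x = z
    induction z using TensorProduct.induction_on with
    | zero => simp
    | add z w hz hw => simp only [map_add, ← hz, ← hw]
    | tmul p q => simp [inL, inR]
  have h1 := conv_comp_antipode_mul (R := A ⊗[k] A) (Bialgebra.comulAlgHom k A)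
  have h2 : toConv (Bialgebra.comulAlgHom k A) *
      (toConv (inR.comp S) * toConv (inL.comp S)) = 1 := by
    rw [hδ, mul_assoc, ← mul_assoc (toConv inR), conv_mul_comp_antipode, one_mul,
      conv_mul_comp_antipode]
  have h3 := congrArg (fun F : WithConv (A →ₐ[k] A ⊗[k] A) => F a) (left_inv_eq_right_inv h1 h2)
  simp only [AlgHom.convMul_apply] at h3
  refine Eq.trans h3 ?_
  generalize CoalgebraStruct.comul (R := k) a = z
  induction z using TensorProduct.induction_on with
  | zero => simp
  | add z w hz hw => simp only [map_add, hz, hw]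
  | tmul p q => simp [inL, inR, S]

end conv

section lift

variable {k : Type u} [Field k] {A : Type v} [CommRing A] [HopfAlgebra k A]
  {B : Type w} [CommRing B] [HopfAlgebra k B]

theorem dvd_of_map_dvd (f : B →ₐc[k] A) (hf : Function.Injective f) (a c : B) (h : f c ∣ f a) :
    c ∣ a := by
  let := (f : B →+* A).toAlgebra
  have : Module.FaithfullyFlat B A :=
    RingHom.faithfullyFlat_algebraMap_iff.1 (faithfullyFlat_of_injective f hf)
  rw [← Ideal.mem_span_singleton,
    ← Ideal.comap_map_eq_self_of_faithfullyFlat (B := A) (Ideal.span {c}),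
    Ideal.mem_comap, Ideal.map_span, Set.image_singleton, Ideal.mem_span_singleton]
  exact h

theorem exists_lift_point [Algebra.FiniteType k A] (f : B →ₐc[k] A) (hf : Function.Injective f)
    (K : Type z) [Field K] [IsAlgClosed K] [Algebra k K] (q : B →ₐ[k] K) :
    ∃ g : A →ₐ[k] K, g.comp (f : B →ₐ[k] A) = q := by
  algebraize [(f : B →+* A)]
  have : IsScalarTower k B A := IsScalarTower.of_algebraMap_eq fun c =>
    ((f : B →ₐ[k] A).commutes c).symm
  have : Module.FaithfullyFlat B A :=
    RingHom.faithfullyFlat_algebraMap_iff.1 (faithfullyFlat_of_injective f hf)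
  have : Algebra.FiniteType B A := Algebra.FiniteType.of_restrictScalars_finiteType k B A
  let := q.toRingHom.toAlgebra
  have : IsScalarTower k B K := IsScalarTower.of_algebraMap_eq fun c => (q.commutes c).symm
  have : Nontrivial (K ⊗[B] A) := Module.FaithfullyFlat.rTensor_nontrivial B A K
  obtain ⟨M, hM⟩ := Ideal.exists_maximal (K ⊗[B] A)
  let : Field ((K ⊗[B] A) ⧸ M) := Ideal.Quotient.field M
  have : Module.Finite K ((K ⊗[B] A) ⧸ M) := finite_of_finite_type_of_isJacobsonRing K _
  let e : K ≃ₐ[K] ((K ⊗[B] A) ⧸ M) := AlgEquiv.ofBijective (Algebra.ofId K _)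
    (IsAlgClosed.algebraMap_bijective_of_isIntegral)
  let g : A →ₐ[B] K := ((e.symm.toAlgHom.comp (Ideal.Quotient.mkₐ K M)).restrictScalars B).comp
    Algebra.TensorProduct.includeRight
  exact ⟨g.restrictScalars k, AlgHom.ext fun b => g.commutes b⟩

/-- A Hopf subalgebra with trivial fibre over the origin is everything. -/
theorem bijective_of_injective_of_map_augI (f : B →ₐc[k] A) (hf : Function.Injective f)
    (h : Ideal.map f (augI k B) = augI k A) : Function.Bijective f := by
  refine ⟨hf, ?_⟩
  algebraize [(f : B →+* A)]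
  have : IsScalarTower k B A := IsScalarTower.of_algebraMap_eq fun c =>
    ((f : B →ₐ[k] A).commutes c).symm
  have : Module.FaithfullyFlat B A :=
    RingHom.faithfullyFlat_algebraMap_iff.1 (faithfullyFlat_of_injective f hf)
  let inL : A →ₐ[k] A ⊗[B] A := Algebra.TensorProduct.includeLeft
  let inR : A →ₐ[k] A ⊗[B] A :=
    (Algebra.TensorProduct.includeRight : A →ₐ[B] A ⊗[B] A).restrictScalars k
  let iS : A →ₐ[k] A ⊗[B] A := inL.comp (HopfAlgebra.antipodeAlgHom k A)
  let Θ : WithConv (A →ₐ[k] A ⊗[B] A) := toConv iS * toConv inR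
  have hB : ∀ b : B, Θ.ofConv (f b) =
      algebraMap k (A ⊗[B] A) (CoalgebraStruct.counit (R := k) b) := by
    intro b
    have h1 : inR.comp (f : B →ₐ[k] A) = inL.comp (f : B →ₐ[k] A) := by
      apply AlgHom.ext
      intro b
      exact ((Algebra.TensorProduct.includeLeft : A →ₐ[B] A ⊗[B] A).commutes b).trans
        ((Algebra.TensorProduct.includeRight : A →ₐ[B] A ⊗[B] A).commutes b).symm |>.symm
    have h2 := AlgHom.convMul_comp_bialgHom_distrib (toConv iS) (toConv inR) f
    have h3 : iS.comp (f : B →ₐ[k] A) =
        (inL.comp (f : B →ₐ[k] A)).comp (HopfAlgebra.antipodeAlgHom k B) := by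
      apply AlgHom.ext
      intro b
      exact congrArg inL (map_antipode f b).symm
    rw [ofConv_toConv, ofConv_toConv, h3, h1, conv_comp_antipode_mul] at h2
    exact AlgHom.congr_fun h2 b
  have hΘ : Θ = 1 := by
    apply WithConv.ext
    apply AlgHom.ext
    intro a
    have hI : augI k A ≤ RingHom.ker Θ.ofConv := by
      rw [← h, Ideal.map_le_iff_le_comap]
      intro b hb
      rw [Ideal.mem_comap, RingHom.mem_ker, hB]
      rw [show CoalgebraStruct.counit (R := k) b = 0 from hb, map_zero]
    have h4 : Θ.ofConv (a - algebraMap k A (cou (k := k) a)) = 0 := hI (sub_mem_augI a)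
    rw [map_sub, AlgHom.commutes, sub_eq_zero] at h4
    exact h4
  have hLR : inR = inL := by
    have : toConv inR = toConv inL := by
      rw [← one_mul (toConv inR), ← conv_mul_comp_antipode inL, mul_assoc]
      show toConv inL * Θ = _
      rw [hΘ, mul_one]
    exact toConv_injective this
  -- descend along faithfully flat `B → A`
  let R : Submodule B A := LinearMap.range (Algebra.linearMap B A)
  have hzero : ∀ z : (A ⧸ R) ⊗[B] A, z = 0 := by
    intro z
    induction z using TensorProduct.induction_on with
    | zero => rfl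
    | add z w hz hw => rw [hz, hw, add_zero]
    | tmul q c =>
      obtain ⟨a, rfl⟩ := Submodule.Quotient.mk_surjective R q
      have e1 : a ⊗ₜ[B] c = (1 : A) ⊗ₜ[B] (a * c) := by
        have := congrArg (fun z => z * ((1 : A) ⊗ₜ[B] c)) (AlgHom.congr_fun hLR a)
        simpa [inL, inR] using this.symm
      have e2 := congrArg (LinearMap.rTensor A R.mkQ) e1
      simp only [LinearMap.rTensor_tmul] at e2
      rw [show R.mkQ (1 : A) = 0 from (Submodule.Quotient.mk_eq_zero R).2 ⟨1, map_one (algebraMap B A)⟩,
        zero_tmul] at e2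
      exact e2
  by_contra hs
  have : Nontrivial (A ⧸ R) := Submodule.Quotient.nontrivial_iff.2 fun hR => hs fun a => by
    obtain ⟨b, hb⟩ := (hR.symm ▸ Submodule.mem_top : a ∈ R)
    exact ⟨b, hb⟩
  obtain ⟨x, y, hxy⟩ := (Module.FaithfullyFlat.rTensor_nontrivial B A (A ⧸ R)).exists_pair_ne
  exact hxy ((hzero x).trans (hzero y).symm)

end lift

section frobenius

variable (k : Type u) [Field k] (A : Type v) [CommRing A] [HopfAlgebra k A] (p : ℕ)
  [Fact p.Prime] [CharP k p]

theorem finrank_eq_pow_of_height_le_one [IsAlgClosed k] [Module.Finite k A]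
    (h1 : ∀ f : A, cou (k := k) f = 0 → f ^ p = 0) :
    Module.finrank k A = p ^ Module.finrank k (augI k A).Cotangent := by
  have : IsArtinianRing A := IsArtinianRing.of_finite k A
  have : Nontrivial A := (cou (k := k) (B := A)).toRingHom.domain_nontrivial
  have hloc : IsLocalRing A := by
    refine IsLocalRing.of_isUnit_or_isUnit_of_isUnit_add fun {a b} hab => ?_
    have hunit : ∀ a : A, cou (k := k) a ≠ 0 → IsUnit a := by
      intro a ha
      have hn : IsNilpotent (a - algebraMap k A (cou (k := k) a)) :=
        ⟨p, h1 _ (RingHom.mem_ker.1 (sub_mem_augI a))⟩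
      have := hn.isUnit_add_left_of_commute
        ((isUnit_iff_ne_zero.2 ha).map (algebraMap k A)) (Commute.all _ _)
      rwa [add_sub_cancel] at this
    by_cases ha : cou (k := k) a = 0
    · refine Or.inr (hunit b fun hb => ?_)
      have := (hab.map (cou (k := k) (B := A))).ne_zero
      rw [map_add, ha, hb, add_zero] at this
      exact this rfl
    · exact Or.inl (hunit a ha)
  have : Module.Finite k (augI k A).Cotangent := finite_cotangent (k := k) (B := A)
  let bc := Module.finBasis k (augI k A).Cotangent
  choose x hx using fun i => (augI k A).toCotangent_surjective (bc i)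
  have h := finrank_quotient_pthIdeal bc (fun i => (x i : A)) (fun i => (x i).2)
    (fun i => by rw [cotProj_of_mem (x i).2, ← hx i]) p
  have hJ : pthIdeal k A p = ⊥ := by
    rw [pthIdeal, Ideal.span_eq_bot]
    rintro _ ⟨y, hy, rfl⟩
    exact h1 y (RingHom.mem_ker.1 hy)
  rw [← h, hJ]
  exact ((Submodule.Quotient.restrictScalarsEquiv k (⊥ : Ideal A)).symm.trans
    (Submodule.quotEquivOfEqBot _ (by simp))).finrank_eq.symm

theorem span_pow_augI_eq_iff_isReduced [IsAlgClosed k] [Module.Finite k A] (n : ℕ) (hn : 1 ≤ n) :
    Ideal.span ((fun f : A => f ^ p ^ n) '' (augI k A : Set A)) = augI k A ↔ IsReduced A := by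
  haveI : ExpChar k p := ExpChar.prime Fact.out
  haveI := expChar_self k A p
  have hp : 2 ≤ p ^ n := le_trans (Fact.out : p.Prime).two_le (Nat.le_self_pow (by omega) p)
  constructor
  · intro h
    have hsq : augI k A ≤ augI k A ^ 2 := by
      conv_lhs => rw [← h]
      rw [Ideal.span_le]
      rintro _ ⟨f, hf, rfl⟩
      exact Ideal.pow_le_pow_right hp (Ideal.pow_mem_pow hf _)
    have hpow : ∀ j, 1 ≤ j → augI k A ≤ augI k A ^ j := by
      intro j hj
      induction j, hj using Nat.le_induction with
      | base => rw [pow_one]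
      | succ j hj ih =>
        refine hsq.trans ?_
        rw [pow_two, pow_succ]
        exact Ideal.mul_mono_left ih
    haveI : Nontrivial A := (cou (k := k) (B := A)).toRingHom.domain_nontrivial
    have hN : compIdeal k A = augI k A :=
      le_antisymm (Ideal.pow_le_self (Module.finrank_pos (R := k) (M := A)).ne')
        (hpow _ (Module.finrank_pos (R := k) (M := A)))
    have hq : Module.finrank k (A ⧸ compIdeal k A) = 1 := by
      rw [hN]
      have e : (A ⧸ augI k A) ≃ₐ[k] k :=
        Ideal.quotientKerAlgEquivOfSurjective (f := cou (k := k) (B := A))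
          fun c => ⟨algebraMap k A c, by simp⟩
      rw [e.toLinearEquiv.finrank_eq, Module.finrank_self]
    obtain ⟨-, hrad⟩ := card_points_mul (k := k) (A := A) 1 hq
    rw [pow_one] at hrad
    refine ⟨fun a ha => ?_⟩
    have : a ∈ (⨅ g : A →ₐ[k] k, RingHom.ker g) := by
      simp only [Submodule.mem_iInf, RingHom.mem_ker]
      exact fun g => (ha.map g).eq_zero
    rwa [hrad, Ideal.mem_bot] at this
  · intro hred
    refine le_antisymm (Ideal.span_le.2 ?_) ?_
    · rintro _ ⟨f, hf, rfl⟩
      exact Ideal.pow_mem_of_mem _ hf _ (by omega)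
    intro a ha
    let bA := Module.finBasis k A
    have hli : LinearIndependent k fun i => bA i ^ p ^ n := by
      rw [Fintype.linearIndependent_iff]
      intro c hc
      choose d hd using fun i => (bijective_iterateFrobenius k p n).2 (c i)
      have h0 : (∑ i, d i • bA i) ^ p ^ n = 0 := by
        rw [sum_pow_char_pow]
        · refine Eq.trans (Finset.sum_congr rfl fun i _ => ?_) hc
          rw [smul_pow, ← hd i, iterateFrobenius_def]
      have h1 := IsReduced.eq_zero _ ⟨_, h0⟩
      intro i
      rw [← hd i, (Fintype.linearIndependent_iff.1 bA.linearIndependent d h1 i), map_zero]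
    haveI : Nontrivial A := (cou (k := k) (B := A)).toRingHom.domain_nontrivial
    haveI : Nonempty (Fin (Module.finrank k A)) :=
      ⟨⟨0, Module.finrank_pos (R := k) (M := A)⟩⟩
    have htop := hli.span_eq_top_of_card_eq_finrank (by simp)
    have hmem : a ∈ powSub k A p n := by
      have : a ∈ Submodule.span k (Set.range fun i => bA i ^ p ^ n) := by rw [htop]; trivial
      refine (Submodule.span_le (p := Subalgebra.toSubmodule (powSub k A p n))).2 ?_ this
      rintro _ ⟨i, rfl⟩
      exact ⟨bA i, rfl⟩
    obtain ⟨y, hy⟩ := hmem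
    refine Ideal.subset_span ⟨y, ?_, hy⟩
    simp only [SetLike.mem_coe, RingHom.mem_ker] at ha ⊢
    have : cou (k := k) y ^ p ^ n = 0 := by
      rw [← map_pow, show y ^ p ^ n = a from hy]
      exact ha
    exact (pow_eq_zero_iff (by omega)).1 this

end frobenius

section perfect

/-- Over a perfect field reduced Noetherian algebras are geometrically reduced. -/
theorem isGeometricallyReduced_of_perfectField {k : Type u} [Field k] [PerfectField k]
    (B : Type u) [CommRing B] [Algebra k B] [IsNoetherianRing B] [IsReduced B] :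
    Algebra.IsGeometricallyReduced k B := by
  rw [Algebra.isGeometricallyReduced_field_iff]
  suffices IsReduced (B ⊗[k] AlgebraicClosure k) from
    isReduced_of_injective (Algebra.TensorProduct.comm k (AlgebraicClosure k) B)
      (AlgEquiv.injective _)
  refine IsReduced.tensorProduct_of_flat_of_forall_fg fun C hC => ?_
  have : Algebra.IsIntegral k C :=
    ⟨fun c => (isIntegral_algHom_iff C.val Subtype.val_injective).1 (Algebra.IsIntegral.isIntegral (c : AlgebraicClosure k))⟩
  have : Algebra.FiniteType k C := C.fg_iff_finiteType.1 hC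
  have : Module.Finite k C := Algebra.IsIntegral.finite
  let : Field C := ((Subalgebra.isField_of_algebraic C)).toField
  have : Algebra.IsSeparable k C := inferInstance
  have : Algebra.FormallyEtale k C := Algebra.FormallyEtale.of_isSeparable k C
  have : Algebra.FinitePresentation k C := Algebra.FinitePresentation.of_finiteType.1 ‹_›
  have : Algebra.Etale k C := ⟨inferInstance, inferInstance⟩
  exact AlgSpLib.isReduced_of_etale_of_isNoetherianRing B (B ⊗[k] C)

/-- A subalgebra of large `p`-powers of a Noetherian algebra is geometrically reduced. -/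
theorem exists_geometricallyReduced_powers {k A : Type u} [Field k] [PerfectField k] (p : ℕ)
    [Fact p.Prime] [CharP k p] [CommRing A] [HopfAlgebra k A] [Algebra.FiniteType k A] :
    ∃ r₀ : ℕ, ∀ r : ℕ, r₀ ≤ r → ∀ B : Subalgebra k A,
      (B : Set A) = Set.range (fun a : A => a ^ p ^ r) → Algebra.IsGeometricallyReduced k B := by
  have : IsNoetherianRing A := Algebra.FiniteType.isNoetherianRing k A
  obtain ⟨m, hm⟩ := IsNoetherianRing.isNilpotent_nilradical A
  refine ⟨m, fun r hr B hB => ?_⟩
  haveI : ExpChar k p := ExpChar.prime Fact.out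
  haveI := expChar_self k A p
  let F : A →+* B := (iterateFrobenius A p r).codRestrict B fun a => by
    rw [← SetLike.mem_coe, hB]
    exact ⟨a, rfl⟩
  have hF : Function.Surjective F := fun b => by
    obtain ⟨y, hy⟩ : (b : A) ∈ Set.range (fun a : A => a ^ p ^ r) := hB ▸ b.2
    exact ⟨y, Subtype.ext hy⟩
  have : IsNoetherianRing B := isNoetherianRing_of_surjective A B F hF
  have : IsReduced B := by
    refine ⟨fun b hb => ?_⟩
    obtain ⟨y, rfl⟩ := hF b
    obtain ⟨j, hj⟩ := hb
    have h1 : (y ^ p ^ r) ^ j = 0 := congrArg Subtype.val hj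
    have hy : y ∈ nilradical A := ⟨p ^ r * j, by rw [pow_mul]; exact h1⟩
    have h2 : y ^ m = 0 := by
      have := Ideal.pow_mem_pow hy m
      rw [hm] at this
      exact this
    refine Subtype.ext ?_
    show y ^ p ^ r = 0
    exact pow_eq_zero_of_le (hr.trans (Nat.lt_pow_self (Fact.out : p.Prime).one_lt).le) h2
  exact isGeometricallyReduced_of_perfectField B

end perfect

section fg

variable {k : Type u} [Field k] {A : Type v} [CommRing A] [HopfAlgebra k A]

theorem antipode_antipode (a : A) :
    HopfAlgebraStruct.antipode (R := k) (HopfAlgebraStruct.antipode (R := k) a) = a := by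
  let S := HopfAlgebra.antipodeAlgHom k A
  have hid : toConv (S : A →ₐ[k] A) * toConv (AlgHom.id k A) = 1 := by
    apply WithConv.ext
    apply AlgHom.toLinearMap_injective
    apply toConv_injective
    rw [AlgHom.toLinearMap_convMul, AlgHom.toLinearMap_convOne]
    exact LinearMap.antipode_mul_id
  have h2 : toConv (S.comp S) * toConv S = 1 := by
    have := AlgHom.comp_convMul_distrib S (toConv S) (toConv (AlgHom.id k A))
    rw [hid] at this
    simp only [ofConv_toConv, AlgHom.comp_id] at this
    rw [← toConv_ofConv (toConv (S.comp S) * toConv S), ← this]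
    apply WithConv.ext
    ext a
    simp
  have : toConv (S.comp S) = toConv (AlgHom.id k A) := by
    rw [eq_inv_of_mul_eq_one_left h2, eq_inv_of_mul_eq_one_left hid, inv_inv]
  exact AlgHom.congr_fun (toConv_injective this) a

end fg

section containing

variable {k : Type u} [Field k] {A : Type v} [CommRing A] [HopfAlgebra k A]

open scoped ComodLib in
/-- Every element lies in a finitely generated sub-Hopf-algebra. -/
theorem exists_fg_isSubHopf (x : A) :
    ∃ B : Subalgebra k A, x ∈ B ∧ B.FG ∧ IsSubHopf k A B := by
  classical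
  letI := selfComod (k := k) (A := A)
  let W : Submodule k A :=
    (Submodule.span (ComodLib.Dual' k A) ({x} : Set A)).restrictScalars k
  have hfin : Module.Finite k W := ComodLib.finite_span_singleton A x
  have hsub : HopfRep.IsSubcomod (k := k) (A := A) W := ComodLib.isSubcomod_restrictScalars _
  have hxW : x ∈ W := Submodule.mem_span_singleton_self (R := ComodLib.Dual' k A) x
  let b := Module.finBasis k W
  choose z hz using fun j => hsub (b j : A) (b j).2
  let c : Fin (Module.finrank k W) → Fin (Module.finrank k W) → A :=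
    fun j i => TensorProduct.equivFinsuppOfBasisLeft b (z j) i
  have hΔ : ∀ j, CoalgebraStruct.comul (R := k) (b j : A) = ∑ i, (b i : A) ⊗ₜ[k] c j i := by
    intro j
    show HopfRep.Comod.coact (k := k) (A := A) (b j : A) = _
    rw [← hz j]
    conv_lhs => rw [← (TensorProduct.equivFinsuppOfBasisLeft b).symm_apply_apply (z j)]
    rw [TensorProduct.equivFinsuppOfBasisLeft_symm_apply, Finsupp.sum_fintype _ _ (by simp),
      map_sum]
    rfl
  have hcc : ∀ j l, CoalgebraStruct.comul (R := k) (c j l) = ∑ i, c i l ⊗ₜ[k] c j i := by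
    intro j l
    obtain ⟨φ, hφ⟩ := LinearMap.exists_extend (b.coord l)
    have hφ' : ∀ i, φ (b i : A) = if i = l then 1 else 0 := fun i => by
      have h2 : φ (W.subtype (b i)) = b.coord l (b i) := LinearMap.congr_fun hφ (b i)
      rw [Module.Basis.coord_apply, b.repr_self, Finsupp.single_apply] at h2
      exact h2
    let P : A ⊗[k] (A ⊗[k] A) →ₗ[k] A ⊗[k] A :=
      (TensorProduct.lid k _).toLinearMap ∘ₗ φ.rTensor _
    have h := congrArg P (Coalgebra.coassoc_apply (R := k) (b j : A))
    rw [hΔ j] at h
    simp only [map_sum, LinearMap.rTensor_tmul, LinearMap.lTensor_tmul, hΔ, sum_tmul,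
      TensorProduct.assoc_tmul] at h
    simp only [P, LinearMap.comp_apply, LinearMap.rTensor_tmul, LinearEquiv.coe_coe,
      TensorProduct.lid_tmul, hφ', ite_smul, one_smul, zero_smul, Finset.sum_ite_eq',
      Finset.mem_univ, if_true] at h
    exact h.symm
  let S := HopfAlgebra.antipodeAlgHom k A
  let G : Finset A := (Finset.univ.image fun p : _ × _ => c p.1 p.2) ∪
    (Finset.univ.image fun p : _ × _ => S (c p.1 p.2))
  let B : Subalgebra k A := Algebra.adjoin k (G : Set A)
  have hc : ∀ j i, c j i ∈ B := fun j i => Algebra.subset_adjoin (by simp [G])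
  have hSc : ∀ j i, S (c j i) ∈ B := fun j i => Algebra.subset_adjoin (by simp [G])
  let R : Subalgebra k (A ⊗[k] A) := (Algebra.TensorProduct.map B.val B.val).range
  have hR : ∀ u v, u ∈ B → v ∈ B → u ⊗ₜ[k] v ∈ R := fun u v hu hv =>
    ⟨(⟨u, hu⟩ : B) ⊗ₜ[k] (⟨v, hv⟩ : B), rfl⟩
  have hcomul : ∀ a ∈ B, Bialgebra.comulAlgHom k A a ∈ R := by
    have : B ≤ R.comap (Bialgebra.comulAlgHom k A) := by
      refine Algebra.adjoin_le ?_
      intro a ha
      simp only [G, Finset.coe_union, Finset.coe_image, Finset.coe_univ, Set.image_univ,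
        Set.mem_union, Set.mem_range, Prod.exists] at ha
      rw [SetLike.mem_coe, Subalgebra.mem_comap, Bialgebra.comulAlgHom_apply]
      rcases ha with ⟨j, l, rfl⟩ | ⟨j, l, rfl⟩
      · rw [hcc]
        exact sum_mem fun i _ => hR _ _ (hc i l) (hc j i)
      · -- `Δ S = τ (S ⊗ S) Δ`
        have hanti : ∀ a : A, CoalgebraStruct.comul (R := k) (S a) =
            TensorProduct.comm k A A (Algebra.TensorProduct.map S S
              (CoalgebraStruct.comul (R := k) a)) := fun a => comul_antipode a
        rw [hanti, hcc, map_sum, map_sum]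
        refine sum_mem fun i _ => ?_
        rw [Algebra.TensorProduct.map_tmul, TensorProduct.comm_tmul]
        exact hR _ _ (hSc j i) (hSc i l)
    exact fun a ha => this ha
  refine ⟨B, ?_, ⟨G, rfl⟩, ⟨fun a ha => ?_, fun a ha => ?_⟩⟩
  · have hb : ∀ j, (b j : A) ∈ B := by
      intro j
      have h := Coalgebra.rTensor_counit_comul (R := k) (b j : A)
      rw [hΔ j] at h
      have h' := congrArg (TensorProduct.lid k A) h
      simp only [map_sum, LinearMap.rTensor_tmul, TensorProduct.lid_tmul, one_smul] at h'
      rw [← h']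
      exact sum_mem fun i _ => Subalgebra.smul_mem B (hc j i) _
    have hx : x = ∑ j, b.repr ⟨x, hxW⟩ j • (b j : A) := by
      have h0 : W.subtype (∑ j, b.repr ⟨x, hxW⟩ j • b j) = W.subtype ⟨x, hxW⟩ := by
        rw [b.sum_repr]
      rw [map_sum] at h0
      simp only [map_smul, Submodule.subtype_apply] at h0
      exact h0.symm
    rw [hx]
    exact sum_mem fun j _ => Subalgebra.smul_mem B (hb j) _
  · obtain ⟨w, hw⟩ := hcomul a ha
    exact ⟨w, hw⟩
  · have : B ≤ B.comap S := by
      refine Algebra.adjoin_le ?_
      intro a ha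
      simp only [G, Finset.coe_union, Finset.coe_image, Finset.coe_univ, Set.image_univ,
        Set.mem_union, Set.mem_range, Prod.exists] at ha
      rcases ha with ⟨j, l, rfl⟩ | ⟨j, l, rfl⟩
      · exact hSc j l
      · show S (S (c j l)) ∈ B
        rw [show S (S (c j l)) = c j l from antipode_antipode (c j l)]
        exact hc j l
    exact this ha

end containing

end Groth.Agent.HopfFF
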