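/-
The nilradical of a commutative Hopf algebra over a perfect field is a Hopf ideal.
-/
import Groth.Agent.CohenLib.RegularField
import Groth.Agent.CommAlgDim.Regular
import Groth.Agent.ZCLib.TSRed
import Mathlib.RingTheory.HopfAlgebra.Quotient
import Mathlib.RingTheory.LocalProperties.Reduced

set_option autoImplicit false

universe u

open TensorProduct

namespace Groth.Agent.HopfFF

theorem isReduced_of_isRegularRing (R : Type u) [CommRing R] [IsRegularRing R] : IsReduced R := by
  refine isReduced_ofLocalizationMaximal R fun J hJ => ?_
  have : IsRegularLocalRing (Localization.AtPrime J) :=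
    (isRegularRing_iff (R := R)).1 inferInstance J
  have := CommAlgDim.isDomain_of_isRegularLocalRing (Localization.AtPrime J)
  infer_instance

/-- Fields over a perfect field have reduced tensor products. -/
theorem isReduced_tensor_fields (k : Type u) [Field k] [PerfectField k] (M L : Type u) [Field M]
    [Field L] [Algebra k M] [Algebra k L] : IsReduced (M ⊗[k] L) := by
  refine IsReduced.tensorProduct_of_flat_of_forall_fg fun C hC => ?_
  have : Algebra.FiniteType k C := C.fg_iff_finiteType.1 hC
  let E := FractionRing C
  have : Algebra.EssFiniteType k E := by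
    have : Algebra.EssFiniteType C E := Algebra.EssFiniteType.of_isLocalization E (nonZeroDivisors C)
    exact Algebra.EssFiniteType.comp k C E
  have : Algebra.FormallySmooth k E :=
    Groth.Agent.PerfectFieldLib.formallySmooth_of_perfectField k E
  have : IsNoetherianRing (M ⊗[k] E) := Algebra.EssFiniteType.isNoetherianRing M _
  have : IsRegularRing (M ⊗[k] E) := CohenLib.isRegularRing_of_formallySmooth (k := M)
  have : IsReduced (M ⊗[k] E) := isReduced_of_isRegularRing _
  exact isReduced_of_injective
    (Algebra.TensorProduct.map (AlgHom.id k M) (IsScalarTower.toAlgHom k C E))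
    (Module.Flat.lTensor_preserves_injective_linearMap (IsScalarTower.toAlgHom k C E).toLinearMap
      (IsFractionRing.injective C E))

/-- Over a perfect field, tensor products of reduced algebras are reduced. -/
theorem isReduced_tensor_of_perfectField (k : Type u) [Field k] [PerfectField k] (R D : Type u)
    [CommRing R] [Algebra k R] [IsReduced R] [CommRing D] [Algebra k D] [IsReduced D] :
    IsReduced (R ⊗[k] D) := by
  refine ZCLib.isReduced_tensor_of_field fun L _ _ => ?_
  have : IsReduced (D ⊗[k] L) :=
    ZCLib.isReduced_tensor_of_field fun M _ _ => isReduced_tensor_fields k M L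
  exact isReduced_of_injective (Algebra.TensorProduct.comm k L D) (AlgEquiv.injective _)

theorem isHopfIdeal_nilradical (k : Type u) [Field k] [PerfectField k] (A : Type u) [CommRing A]
    [HopfAlgebra k A] : (nilradical A).IsHopfIdeal k where
  counit_eq_zero x hx :=
    IsNilpotent.eq_zero ((mem_nilradical.1 hx).map (Bialgebra.counitAlgHom k A))
  map_mkQ_comul_eq_zero x hx := by
    let e := Submodule.Quotient.restrictScalarsEquiv k (nilradical A)
    apply (TensorProduct.congr e e).injective
    rw [map_zero]
    have hr : IsReduced (A ⧸ nilradical A) :=
      (Ideal.isRadical_iff_quotient_reduced _).1 (Ideal.radical_isRadical _)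
    have := isReduced_tensor_of_perfectField k (A ⧸ nilradical A) (A ⧸ nilradical A)
    let g : A →ₐ[k] (A ⧸ nilradical A) ⊗[k] (A ⧸ nilradical A) :=
      (Algebra.TensorProduct.map (Ideal.Quotient.mkₐ k _) (Ideal.Quotient.mkₐ k _)).comp
        (Bialgebra.comulAlgHom k A)
    refine Eq.trans ?_ (IsNilpotent.eq_zero ((mem_nilradical.1 hx).map g))
    show _ = Algebra.TensorProduct.map _ _ (CoalgebraStruct.comul (R := k) x)
    generalize CoalgebraStruct.comul (R := k) x = z
    induction z using TensorProduct.induction_on with
    | zero => simp
    | add z w hz hw => simp only [map_add, hz, hw]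
    | tmul a b => rfl
  antipode_mem x hx := mem_nilradical.2 ((mem_nilradical.1 hx).map (HopfAlgebra.antipodeAlgHom k A))

end Groth.Agent.HopfFF
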