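/-
Idempotents in tensor products over an algebraically closed field; separable elements.
-/
import Groth.Agent.HopfFFLib.Normal.Weights
import Mathlib.FieldTheory.Separable
import Mathlib.LinearAlgebra.Lagrange

set_option autoImplicit false

universe u

open TensorProduct

namespace Groth.Agent.HopfFF

/-- A Noetherian ring has finitely many idempotents. -/
theorem finite_idempotents (R : Type u) [CommRing R] [IsNoetherianRing R] :
    {e : R | IsIdempotentElem e}.Finite := by
  classical
  refine Set.Finite.of_injOn (f := fun e => {P ∈ minimalPrimes R | e ∈ P})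
    (t := {S | S ⊆ minimalPrimes R}) (fun e _ => ?_) ?_
    ((minimalPrimes.finite_of_isNoetherianRing R).finite_subsets)
  · exact fun P hP => hP.1
  · intro e he e' he' h
    have key : ∀ a b : R, IsIdempotentElem a → IsIdempotentElem b →
        (∀ P ∈ minimalPrimes R, b ∈ P → a ∈ P) → a * (1 - b) = 0 := by
      intro a b ha hb hab
      refine eq_of_isNilpotent_sub_of_isIdempotentElem (ha.mul hb.one_sub) IsIdempotentElem.zero ?_
      rw [sub_zero]
      rw [← mem_nilradical, nilradical_eq_sInf, Ideal.mem_sInf]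
      intro P hP
      have : P.IsPrime := hP
      obtain ⟨Q, hQ, hQP⟩ := Ideal.exists_minimalPrimes_le (I := ⊥) (J := P) bot_le
      refine hQP ?_
      rcases (hQ.1.1.mem_or_mem (x := b) (y := 1 - b) (by
        rw [mul_sub, mul_one, hb.eq, sub_self]; exact Q.zero_mem)) with h1 | h1
      · exact Q.mul_mem_right _ (hab Q hQ h1)
      · exact Q.mul_mem_left _ h1
    have h1 : e * (1 - e') = 0 := key e e' he he' fun P hP hP' => ((Set.ext_iff.1 h P).2 ⟨hP, hP'⟩).2
    have h2 : e' * (1 - e) = 0 := key e' e he' he fun P hP hP' => ((Set.ext_iff.1 h P).1 ⟨hP, hP'⟩).2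
    linear_combination h1 - h2

variable {k : Type u} [Field k] [IsAlgClosed k]

theorem isSeparable_of_isIdempotentElem {A : Type u} [CommRing A] [Algebra k A] {e : A}
    (he : IsIdempotentElem e) : IsSeparable k e := by
  have hsep : (Polynomial.X * (Polynomial.X - Polynomial.C 1) : Polynomial k).Separable := by
    refine Polynomial.separable_X.mul (Polynomial.separable_X_sub_C) ?_
    exact ⟨1, -1, by simp⟩
  refine hsep.of_dvd (minpoly.dvd k e ?_)
  simp [mul_sub, he.eq]

theorem exists_idem_expansion_of_isSeparable {A : Type u} [CommRing A] [Algebra k A] {a : A}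
    (ha : IsSeparable k a) :
    ∃ (s : Finset k) (e : k → A), (∀ c, IsIdempotentElem (e c)) ∧ a = ∑ c ∈ s, c • e c := by
  classical
  let P := minpoly k a
  have hP : P ≠ 0 := minpoly.ne_zero ha.isIntegral
  let s := P.roots.toFinset
  have hdvd : ∀ q : Polynomial k, (∀ c ∈ s, q.eval c = 0) → Polynomial.aeval a q = 0 := by
    intro q hq
    by_cases h0 : q = 0
    · rw [h0, map_zero]
    have hsplit : P.Splits := IsAlgClosed.splits P
    have hle : P.roots ≤ q.roots := by
      refine (Multiset.le_iff_subset (Polynomial.nodup_roots ha)).2 fun c hc => ?_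
      rw [Polynomial.mem_roots h0]
      exact hq c (Multiset.mem_toFinset.2 hc)
    obtain ⟨r, hr⟩ := hsplit.dvd_of_roots_le_roots hP hle
    rw [hr, map_mul, minpoly.aeval, zero_mul]
  refine ⟨s, fun c => if c ∈ s then Polynomial.aeval a (Lagrange.basis s id c) else 0,
    fun c => ?_, ?_⟩
  · by_cases hc : c ∈ s
    · simp only [if_pos hc]
      show _ * _ = _
      rw [← map_mul, ← sub_eq_zero, ← map_sub]
      refine hdvd _ fun d hd => ?_
      rw [Polynomial.eval_sub, Polynomial.eval_mul]
      rcases eq_or_ne c d with rfl | hne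
      · rw [show Polynomial.eval c (Lagrange.basis s id c) = 1 from
          Lagrange.eval_basis_self (v := id) Function.injective_id.injOn hc]
        ring
      · rw [show Polynomial.eval d (Lagrange.basis s id c) = 0 from
          Lagrange.eval_basis_of_ne (v := id) hne hd]
        ring
    · simp [hc, IsIdempotentElem]
  · have h := hdvd (Polynomial.X - ∑ c ∈ s, Polynomial.C c * Lagrange.basis s id c) fun d hd => by
      rw [Polynomial.eval_sub, Polynomial.eval_finsetSum, Polynomial.eval_X,
        Finset.sum_eq_single d (fun c _ hne => by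
          rw [Polynomial.eval_mul, show Polynomial.eval d (Lagrange.basis s id c) = 0 from
            Lagrange.eval_basis_of_ne (v := id) hne hd, mul_zero]) (fun h => absurd hd h),
        Polynomial.eval_mul, show Polynomial.eval d (Lagrange.basis s id d) = 1 from
          Lagrange.eval_basis_self (v := id) Function.injective_id.injOn hd]
      simp
    rw [map_sub, sub_eq_zero, Polynomial.aeval_X, map_sum] at h
    refine h.trans (Finset.sum_congr rfl fun c hc => ?_)
    simp [hc, Algebra.smul_def]

/-- An idempotent of a tensor product is a sum of tensor products of idempotents. -/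
theorem exists_idem_expansion {A A' : Type u} [CommRing A] [Algebra k A] [Algebra.FiniteType k A]
    [CommRing A'] [Algebra k A'] [Algebra.FiniteType k A'] {f : A ⊗[k] A'}
    (hf : IsIdempotentElem f) :
    ∃ (U : Finset A') (v : A' → A), (∀ u ∈ U, IsIdempotentElem u) ∧
      (∀ u, IsIdempotentElem (v u)) ∧ f = ∑ u ∈ U, v u ⊗ₜ[k] u := by
  classical
  have : IsNoetherianRing A' := Algebra.FiniteType.isNoetherianRing k A'
  let U := (finite_idempotents A').toFinset
  have hU : ∀ {u}, u ∈ U ↔ IsIdempotentElem u := fun {u} => (finite_idempotents A').mem_toFinset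
  have hsep : ∀ p : A' × A', p.1 ∈ U → p.2 ∈ U → p.1 ≠ p.2 → ∃ h : A' →ₐ[k] k, h p.1 ≠ h p.2 := by
    intro p h1 h2 hne
    by_contra hcon
    push Not at hcon
    refine hne (eq_of_isNilpotent_sub_of_isIdempotentElem (hU.1 h1) (hU.1 h2) ?_)
    exact isNilpotent_of_forall_point (k := k) fun g => by rw [map_sub, hcon g, sub_self]
  let ψ : (A →ₐ[k] k) → A ⊗[k] A' →ₐ[k] A' := fun g =>
    Algebra.TensorProduct.productMap ((Algebra.ofId k A').comp g) (AlgHom.id k A')
  let η : (A' →ₐ[k] k) → A ⊗[k] A' →ₐ[k] A := fun h =>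
    Algebra.TensorProduct.productMap (AlgHom.id k A) ((Algebra.ofId k A).comp h)
  have hηψ : ∀ (g : A →ₐ[k] k) (h : A' →ₐ[k] k), g (η h f) = h (ψ g f) := by
    intro g h
    have : g.comp (η h) = h.comp (ψ g) := Algebra.TensorProduct.ext
      (AlgHom.ext fun a => by simp [η, ψ]) (AlgHom.ext fun a => by simp [η, ψ])
    exact AlgHom.congr_fun this f
  let pairs := (U ×ˢ U).filter fun p => p.1 ≠ p.2
  have hpairs : ∀ {p}, p ∈ pairs → ∃ h : A' →ₐ[k] k, h p.1 ≠ h p.2 := fun {p} hp => by
    obtain ⟨hp1, hp2⟩ := Finset.mem_filter.1 hp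
    exact hsep p (Finset.mem_product.1 hp1).1 (Finset.mem_product.1 hp1).2 hp2
  let Hs := pairs.attach.image fun p => (hpairs p.2).choose
  let v : A' → A := fun u => ∏ h ∈ Hs, if h u = 1 then η h f else 1 - η h f
  have hv : ∀ u, IsIdempotentElem (v u) := by
    intro u
    refine Finset.prod_induction _ IsIdempotentElem (fun a b ha hb => ha.mul hb)
      IsIdempotentElem.one fun p _ => ?_
    split_ifs
    · exact hf.map _
    · exact (hf.map _).one_sub
  have hmemU : ∀ g : A →ₐ[k] k, ψ g f ∈ U := fun g => hU.2 (hf.map _)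
  have h01 : ∀ {R : Type u} [CommRing R] [Algebra k R] (h : R →ₐ[k] k) {e : R},
      IsIdempotentElem e → h e = 0 ∨ h e = 1 := fun h e he =>
    IsIdempotentElem.iff_eq_zero_or_one.1 (he.map h)
  have hgv : ∀ (g : A →ₐ[k] k), ∀ u ∈ U, g (v u) = if u = ψ g f then 1 else 0 := by
    intro g u hu
    rw [map_prod]
    split_ifs with h
    · refine Finset.prod_eq_one fun q _ => ?_
      rcases h01 q (hU.1 hu) with h0 | h1
      · rw [if_neg (by rw [h0]; exact zero_ne_one), map_sub, map_one, hηψ, ← h, h0, sub_zero]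
      · rw [if_pos h1, hηψ, ← h, h1]
    · have hp : (u, ψ g f) ∈ pairs :=
        Finset.mem_filter.2 ⟨Finset.mem_product.2 ⟨hu, hmemU g⟩, h⟩
      let q := (hpairs hp).choose
      have hne : q u ≠ q (ψ g f) := (hpairs hp).choose_spec
      refine Finset.prod_eq_zero (i := q)
        (Finset.mem_image.2 ⟨⟨_, hp⟩, Finset.mem_attach _ _, rfl⟩) ?_
      rcases h01 q (hU.1 hu) with h0 | h1
      · rcases h01 q (hU.1 (hmemU g)) with h0' | h1'
        · exact absurd (h0.trans h0'.symm) hne
        · rw [if_neg (by rw [h0]; exact zero_ne_one), map_sub, map_one, hηψ, h1', sub_self]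
      · rcases h01 q (hU.1 (hmemU g)) with h0' | h1'
        · rw [if_pos h1, hηψ, h0']
        · exact absurd (h1.trans h1'.symm) hne
  have horth : ∀ u ∈ U, ∀ u' ∈ U, u ≠ u' → v u * v u' = 0 := by
    intro u hu u' hu' hne
    refine eq_of_isNilpotent_sub_of_isIdempotentElem ((hv u).mul (hv u')) IsIdempotentElem.zero ?_
    rw [sub_zero]
    refine isNilpotent_of_forall_point (k := k) fun g => ?_
    rw [map_mul, hgv g u hu, hgv g u' hu']
    split_ifs with h1 h2 <;> simp_all
  have : Algebra.FiniteType k (A ⊗[k] A') := Algebra.FiniteType.trans (S := A) inferInstance inferInstance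
  let F := ∑ u ∈ U, v u ⊗ₜ[k] u
  have hF : IsIdempotentElem F := by
    show F * F = F
    rw [Finset.sum_mul]
    refine Finset.sum_congr rfl fun u hu => ?_
    rw [Finset.mul_sum, Finset.sum_eq_single u (fun u' hu' hne => by
      rw [Algebra.TensorProduct.tmul_mul_tmul, horth u hu u' hu' hne.symm, zero_tmul])
      (fun h => absurd hu h), Algebra.TensorProduct.tmul_mul_tmul, (hv u).eq, (hU.1 hu).eq]
  refine ⟨U, v, fun u hu => hU.1 hu, hv, eq_of_isNilpotent_sub_of_isIdempotentElem hf hF ?_⟩
  refine isNilpotent_of_forall_point (k := k) fun Φ => ?_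
  let g := Φ.comp (Algebra.TensorProduct.includeLeft : A →ₐ[k] A ⊗[k] A')
  let h := Φ.comp (Algebra.TensorProduct.includeRight : A' →ₐ[k] A ⊗[k] A')
  have hΦ : h.comp (ψ g) = Φ := Algebra.TensorProduct.ext
    (AlgHom.ext fun a => by simp [ψ, g]) (AlgHom.ext fun a => by simp [ψ, h])
  have h2 : Φ F = ∑ u ∈ U, g (v u) * h u := by
    rw [map_sum]
    refine Finset.sum_congr rfl fun u _ => ?_
    simp only [g, h, AlgHom.comp_apply, Algebra.TensorProduct.includeLeft_apply,
      Algebra.TensorProduct.includeRight_apply]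
    rw [← map_mul, Algebra.TensorProduct.tmul_mul_tmul, mul_one, one_mul]
  rw [map_sub, sub_eq_zero, h2, Finset.sum_eq_single (ψ g f) (fun u hu hne => by
    rw [hgv g u hu, if_neg hne, zero_mul]) (fun h' => absurd (hmemU g) h'),
    hgv g _ (hmemU g), if_pos rfl, one_mul, ← AlgHom.comp_apply, hΦ]

end Groth.Agent.HopfFF
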